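import Mathlib
import Cfsg.Agent.Helper20.Union

set_option autoImplicit false

namespace Cfsg.Agent.Helper20

universe u

/-- `φ(d)` divides the number of elements of order `d`. -/
theorem totient_dvd_card_orderOf (G : Type*) [Group G] [Finite G] (d : ℕ) :
    Nat.totient d ∣ Nat.card {x : G // orderOf x = d} := by
  rcases Nat.eq_zero_or_pos d with rfl | hd
  · haveI : IsEmpty {x : G // orderOf x = 0} := ⟨fun x => (orderOf_pos x.1).ne' x.2⟩
    rw [Nat.card_of_isEmpty]
    exact dvd_zero _
  haveI : NeZero d := ⟨hd.ne'⟩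
  letI act : MulAction (ZMod d)ˣ {x : G // orderOf x = d} :=
    { smul := fun k x => ⟨x.1 ^ (k : ZMod d).val, by
        rw [Nat.Coprime.orderOf_pow]
        · exact x.2
        · rw [x.2]; exact (ZMod.val_coe_unit_coprime k).symm⟩
      one_smul := by
        rintro ⟨x, hx⟩
        apply Subtype.ext
        show x ^ ((1 : (ZMod d)ˣ) : ZMod d).val = x
        rw [Units.val_one, ZMod.val_one_eq_one_mod]
        have h1 : x ^ (1 % d) = x ^ 1 := by
          rw [pow_eq_pow_iff_modEq, hx]; exact Nat.mod_modEq 1 d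
        rw [h1, pow_one]
      mul_smul := by
        rintro k k' ⟨x, hx⟩
        apply Subtype.ext
        show x ^ ((k * k' : (ZMod d)ˣ) : ZMod d).val = (x ^ (k' : ZMod d).val) ^ (k : ZMod d).val
        rw [Units.val_mul, ZMod.val_mul, ← pow_mul, pow_eq_pow_iff_modEq, hx]
        exact (Nat.mod_modEq _ _).trans (by rw [mul_comm]) }
  have hfree : ∀ x : {x : G // orderOf x = d}, MulAction.stabilizer (ZMod d)ˣ x = ⊥ := by
    rintro ⟨x, hx⟩
    rw [eq_bot_iff]
    intro k hk
    rw [MulAction.mem_stabilizer_iff] at hk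
    have h1 : x ^ (k : ZMod d).val = x ^ 1 := by
      rw [pow_one]; exact congrArg Subtype.val hk
    rw [pow_eq_pow_iff_modEq, hx] at h1
    rw [Subgroup.mem_bot]
    apply Units.ext
    have h2 := (ZMod.natCast_eq_natCast_iff _ _ d).mpr h1
    rw [ZMod.natCast_zmod_val, Nat.cast_one] at h2
    exact h2
  have e := MulAction.selfEquivOrbitsQuotientProd hfree
  rw [Nat.card_congr e, Nat.card_prod, Nat.card_eq_fintype_card (α := (ZMod d)ˣ),
    ZMod.card_units_eq_totient]
  exact dvd_mul_left _ _

/-- If `k ∣ φ(d)` for all `d` satisfying `P`, then `k` divides the number of elements whose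
order satisfies `P`. -/
theorem dvd_card_of_orderOf (G : Type*) [Group G] [Finite G] (P : ℕ → Prop) (k : ℕ)
    (h : ∀ d, P d → k ∣ Nat.totient d) : k ∣ Nat.card {g : G // P (orderOf g)} := by
  classical
  haveI : Fintype G := Fintype.ofFinite G
  rw [Nat.card_eq_fintype_card, Fintype.card_subtype,
    Finset.card_eq_sum_card_fiberwise (f := orderOf) (t := Finset.image orderOf Finset.univ)
      (fun x _ => Finset.mem_coe.mpr (Finset.mem_image_of_mem _ (Finset.mem_univ x)))]
  apply Finset.dvd_sum
  intro d _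
  by_cases hd : P d
  · have e : (Finset.univ.filter (fun g : G => P (orderOf g))).filter (fun g => orderOf g = d) =
        Finset.univ.filter (fun g : G => orderOf g = d) := by
      ext g
      simp only [Finset.mem_filter, Finset.mem_univ, true_and]
      constructor
      · exact fun hg => hg.2
      · intro hg; exact ⟨by rw [hg]; exact hd, hg⟩
    rw [e, ← Fintype.card_subtype, ← Nat.card_eq_fintype_card]
    exact (h d hd).trans (totient_dvd_card_orderOf G d)
  · have e : (Finset.univ.filter (fun g : G => P (orderOf g))).filter (fun g => orderOf g = d) =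
        ∅ := by
      rw [Finset.filter_eq_empty_iff]
      intro g hg h2
      rw [Finset.mem_filter] at hg
      exact hd (h2 ▸ hg.2)
    rw [e, Finset.card_empty]
    exact dvd_zero _

/-- splitting a count -/
theorem card_split {α : Type*} [Finite α] (P Q : α → Prop) (h : ∀ a, Q a → P a) :
    Nat.card {a // P a} = Nat.card {a // Q a} + Nat.card {a // P a ∧ ¬ Q a} := by
  classical
  haveI := Fintype.ofFinite α
  have e1 : (Finset.univ.filter P).filter Q = Finset.univ.filter Q := by
    ext a
    simp only [Finset.mem_filter, Finset.mem_univ, true_and]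
    exact ⟨fun hq => hq.2, fun hq => ⟨h a hq, hq⟩⟩
  rw [Nat.card_eq_fintype_card, Nat.card_eq_fintype_card, Nat.card_eq_fintype_card,
    Fintype.card_subtype, Fintype.card_subtype, Fintype.card_subtype,
    ← Finset.card_filter_add_card_filter_not (s := Finset.univ.filter P) Q,
    e1, Finset.filter_filter]

/-- orbit-sum divisibility -/
theorem dvd_sum_of_orbit {G Y : Type*} [Group G] [MulAction G Y] [Fintype Y] (f : Y → ℕ)
    (hf : ∀ (g : G) (y : Y), f (g • y) = f y) (s : ℕ)
    (hs : ∀ y : Y, s ∣ (MulAction.orbit G y).ncard * f y) : s ∣ ∑ y, f y := by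
  classical
  haveI : Fintype (MulAction.orbitRel.Quotient G Y) := Fintype.ofFinite _
  rw [← Finset.sum_fiberwise Finset.univ
    (fun y => (Quotient.mk'' y : MulAction.orbitRel.Quotient G Y)) f]
  apply Finset.dvd_sum
  intro ω _
  induction ω using Quotient.inductionOn' with
  | h y₀ =>
    have h1 : ∀ y ∈ Finset.univ.filter (fun y =>
        (Quotient.mk'' y : MulAction.orbitRel.Quotient G Y) = Quotient.mk'' y₀), f y = f y₀ := by
      intro y hy
      rw [Finset.mem_filter] at hy
      have h2 : y ∈ MulAction.orbit G y₀ := Quotient.eq''.mp hy.2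
      obtain ⟨g, hg⟩ := h2
      rw [← hg]; exact hf g y₀
    rw [Finset.sum_congr rfl h1, Finset.sum_const, smul_eq_mul]
    have h3 : (Finset.univ.filter (fun y =>
        (Quotient.mk'' y : MulAction.orbitRel.Quotient G Y) = Quotient.mk'' y₀)).card =
        (MulAction.orbit G y₀).ncard := by
      rw [Set.ncard_eq_toFinset_card']
      congr 1
      ext y
      simp only [Finset.mem_filter, Finset.mem_univ, true_and, Set.mem_toFinset]
      exact Quotient.eq''
    rw [h3]; exact hs y₀

/-- class-sum divisibility for conjugation -/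
theorem dvd_sum_conj {G : Type*} [Group G] [Fintype G] (s : ℕ) (R : G → Prop)
    (hR : ∀ g y : G, R y → R (g * y * g⁻¹))
    (hdiv : ∀ y : G, R y → s ∣ (Subgroup.centralizer ({y} : Set G)).index *
      Nat.card {c : Subgroup.centralizer ({y} : Set G) // c ^ s = 1}) :
    s ∣ ∑ y : G, Nat.card {z : G // R y ∧ Commute y z ∧ z ^ s = 1} := by
  apply dvd_sum_of_orbit (G := ConjAct G)
    (fun y : G => Nat.card {z : G // R y ∧ Commute y z ∧ z ^ s = 1})
  · intro g y
    symm
    apply Nat.card_congr
    refine (MulAut.conj (ConjAct.ofConjAct g)).toEquiv.subtypeEquiv ?_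
    intro z
    show R y ∧ Commute y z ∧ z ^ s = 1 ↔ R (g • y) ∧
      Commute (g • y) (ConjAct.ofConjAct g * z * (ConjAct.ofConjAct g)⁻¹) ∧
      (ConjAct.ofConjAct g * z * (ConjAct.ofConjAct g)⁻¹) ^ s = 1
    rw [ConjAct.smul_def, conj_pow, conj_eq_one_iff, Commute.conj_iff]
    constructor
    · rintro ⟨h1, h2⟩; exact ⟨hR _ _ h1, h2⟩
    · rintro ⟨h1, h2⟩
      refine ⟨?_, h2⟩
      have h3 := hR (ConjAct.ofConjAct g)⁻¹ _ h1
      have e : (ConjAct.ofConjAct g)⁻¹ * (ConjAct.ofConjAct g * y * (ConjAct.ofConjAct g)⁻¹) *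
          (ConjAct.ofConjAct g)⁻¹⁻¹ = y := by group
      rw [e] at h3
      exact h3
  · intro y
    by_cases hy : R y
    · rw [ConjAct.orbit_eq_carrier_conjClasses, ncard_carrier_eq]
      have e : Nat.card {z : G // R y ∧ Commute y z ∧ z ^ s = 1} =
          Nat.card {c : Subgroup.centralizer ({y} : Set G) // c ^ s = 1} := by
        apply Nat.card_congr
        exact
          { toFun := fun z => ⟨⟨z.1, by
                rw [Subgroup.mem_centralizer_iff]
                intro h hh
                rw [Set.mem_singleton_iff] at hh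
                rw [hh]; exact z.2.2.1.eq⟩, Subtype.ext z.2.2.2⟩
            invFun := fun c => ⟨c.1.1, hy, by
                have h1 := c.1.2
                rw [Subgroup.mem_centralizer_iff] at h1
                exact h1 y (Set.mem_singleton y), by
                have h2 := congrArg Subtype.val c.2
                rw [Subgroup.coe_pow] at h2
                exact h2⟩
            left_inv := fun z => rfl
            right_inv := fun c => rfl }
      rw [e]; exact hdiv y hy
    · haveI : IsEmpty {z : G // R y ∧ Commute y z ∧ z ^ s = 1} := ⟨fun z => hy z.2.1⟩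
      rw [Nat.card_of_isEmpty, mul_zero]
      exact dvd_zero _

/-- counting `s`-th roots of unity modulo a central subgroup of coprime order -/
theorem card_pow_eq_one_quot {H : Type*} [Group H] [Finite H] (Z : Subgroup H) [Z.Normal]
    (hZ : Z ≤ Subgroup.center H) (s : ℕ) (hs : Nat.Coprime s (Nat.card Z)) :
    Nat.card {z : H // z ^ s = 1} = Nat.card {z : H ⧸ Z // z ^ s = 1} := by
  apply Nat.card_congr
  refine Equiv.ofBijective (fun z => ⟨(z.1 : H ⧸ Z), by
    rw [← QuotientGroup.mk_pow, z.2]; rfl⟩) ⟨?_, ?_⟩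
  · rintro ⟨z₁, h₁⟩ ⟨z₂, h₂⟩ h
    have h' : (z₁ : H ⧸ Z) = (z₂ : H ⧸ Z) := congrArg Subtype.val h
    rw [QuotientGroup.eq] at h'
    apply Subtype.ext
    show z₁ = z₂
    have hwc : ∀ g : H, g * (z₁⁻¹ * z₂) = (z₁⁻¹ * z₂) * g :=
      fun g => (Subgroup.mem_center_iff.mp (hZ h') g)
    have hz2 : z₂ = z₁ * (z₁⁻¹ * z₂) := by group
    have hws : (z₁⁻¹ * z₂) ^ s = 1 := by
      have h3 : (z₁ * (z₁⁻¹ * z₂)) ^ s = z₁ ^ s * (z₁⁻¹ * z₂) ^ s :=
        Commute.mul_pow (hwc z₁) s
      rw [← hz2, h₂, h₁, one_mul] at h3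
      exact h3.symm
    have hwZ : (z₁⁻¹ * z₂) ^ Nat.card Z = 1 := by
      have h4 := pow_card_eq_one' (G := Z) (x := ⟨z₁⁻¹ * z₂, h'⟩)
      have h5 := congrArg Subtype.val h4
      rw [Subgroup.coe_pow] at h5
      exact h5
    have hw1 : z₁⁻¹ * z₂ = 1 := by
      have h1 : orderOf (z₁⁻¹ * z₂) ∣ Nat.gcd s (Nat.card Z) :=
        Nat.dvd_gcd (orderOf_dvd_of_pow_eq_one hws) (orderOf_dvd_of_pow_eq_one hwZ)
      rw [hs.gcd_eq_one, Nat.dvd_one, orderOf_eq_one_iff] at h1
      exact h1
    rw [hz2, hw1, mul_one]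
  · rintro ⟨c', hc⟩
    obtain ⟨c, rfl⟩ := QuotientGroup.mk_surjective c'
    obtain ⟨k, hk1, hk0⟩ := Nat.chineseRemainder hs 1 0
    have hcs : c ^ s ∈ Z := by
      rw [← QuotientGroup.eq_one_iff, QuotientGroup.mk_pow]; exact hc
    have h1 : (c ^ k) ^ s = 1 := by
      rw [← pow_mul, mul_comm, pow_mul]
      obtain ⟨j, rfl⟩ := (Nat.modEq_zero_iff_dvd).mp hk0
      have h4 := pow_card_eq_one' (G := Z) (x := ⟨c ^ s, hcs⟩)
      have h5 : (c ^ s) ^ Nat.card Z = 1 := by
        have h6 := congrArg Subtype.val h4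
        rw [Subgroup.coe_pow] at h6
        exact h6
      rw [pow_mul, h5, one_pow]
    refine ⟨⟨c ^ k, h1⟩, ?_⟩
    apply Subtype.ext
    show ((c ^ k : H) : H ⧸ Z) = (c : H ⧸ Z)
    rw [QuotientGroup.mk_pow]
    have h2 : (c : H ⧸ Z) ^ k = (c : H ⧸ Z) ^ 1 := by
      rw [pow_eq_pow_iff_modEq]
      exact hk1.of_dvd (orderOf_dvd_of_pow_eq_one hc)
    rw [h2, pow_one]

/-- decomposition of elements with `x ^ (q * s) = 1` into commuting `q`- and `s`-parts -/
theorem card_decomp {G : Type*} [Group G] [Fintype G] (q s : ℕ) (hqs : q.Coprime s)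
    (T R : G → Prop)
    (hT : ∀ y z : G, y ^ q = 1 → z ^ s = 1 → Commute y z → (T (y * z) ↔ R y)) :
    Nat.card {x : G // x ^ (q * s) = 1 ∧ T x} =
      ∑ y : G, Nat.card {z : G // (y ^ q = 1 ∧ R y) ∧ Commute y z ∧ z ^ s = 1} := by
  rw [← Nat.card_sigma]
  apply Nat.card_congr
  obtain ⟨e, he1, he0⟩ := Nat.chineseRemainder hqs 1 0
  obtain ⟨e', he'0, he'1⟩ := Nat.chineseRemainder hqs 0 1
  have hsum : e + e' ≡ 1 [MOD q * s] := by
    apply (Nat.modEq_and_modEq_iff_modEq_mul hqs).mp
    constructor
    · simpa using he1.add he'0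
    · simpa using he0.add he'1
  have hse : s ∣ e := (Nat.modEq_zero_iff_dvd).mp he0
  have hqe' : q ∣ e' := (Nat.modEq_zero_iff_dvd).mp he'0
  have key : ∀ x : G, x ^ (q * s) = 1 →
      (x ^ e) ^ q = 1 ∧ (x ^ e') ^ s = 1 ∧ x ^ e * x ^ e' = x := by
    intro x hx
    refine ⟨?_, ?_, ?_⟩
    · obtain ⟨c, rfl⟩ := hse
      rw [← pow_mul, show s * c * q = q * s * c by ring, pow_mul, hx, one_pow]
    · obtain ⟨c, rfl⟩ := hqe'
      rw [← pow_mul, show q * c * s = q * s * c by ring, pow_mul, hx, one_pow]
    · rw [← pow_add]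
      have h1 : x ^ (e + e') = x ^ 1 := by
        rw [pow_eq_pow_iff_modEq]
        exact hsum.of_dvd (orderOf_dvd_of_pow_eq_one hx)
      rw [h1, pow_one]
  have key2 : ∀ y z : G, y ^ q = 1 → z ^ s = 1 → Commute y z →
      (y * z) ^ (q * s) = 1 ∧ (y * z) ^ e = y ∧ (y * z) ^ e' = z := by
    intro y z hy hz hc
    refine ⟨?_, ?_, ?_⟩
    · rw [hc.mul_pow, pow_mul, hy, one_pow, mul_comm q s, pow_mul, hz, one_pow, one_mul]
    · rw [hc.mul_pow]
      have h1 : y ^ e = y ^ 1 := by
        rw [pow_eq_pow_iff_modEq]; exact he1.of_dvd (orderOf_dvd_of_pow_eq_one hy)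
      have h2 : z ^ e = 1 := by
        obtain ⟨c, rfl⟩ := hse
        rw [pow_mul, hz, one_pow]
      rw [h1, h2, pow_one, mul_one]
    · rw [hc.mul_pow]
      have h1 : z ^ e' = z ^ 1 := by
        rw [pow_eq_pow_iff_modEq]; exact he'1.of_dvd (orderOf_dvd_of_pow_eq_one hz)
      have h2 : y ^ e' = 1 := by
        obtain ⟨c, rfl⟩ := hqe'
        rw [pow_mul, hy, one_pow]
      rw [h1, h2, pow_one, one_mul]
  refine
    { toFun := fun x => ⟨x.1 ^ e, ⟨x.1 ^ e', ?_⟩⟩
      invFun := fun yz => ⟨yz.1 * yz.2.1, ?_⟩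
      left_inv := ?_
      right_inv := ?_ }
  · obtain ⟨h1, h2, h3⟩ := key x.1 x.2.1
    have hc : Commute (x.1 ^ e) (x.1 ^ e') := Commute.pow_pow_self x.1 e e'
    refine ⟨⟨h1, ?_⟩, hc, h2⟩
    have h4 := hT _ _ h1 h2 hc
    rw [h3] at h4
    exact h4.mp x.2.2
  · obtain ⟨⟨hy, hR⟩, hc, hz⟩ := yz.2.2
    exact ⟨(key2 _ _ hy hz hc).1, (hT _ _ hy hz hc).mpr hR⟩
  · intro x
    apply Subtype.ext
    exact (key x.1 x.2.1).2.2
  · rintro ⟨y, z, ⟨hy, hR⟩, hc, hz⟩
    apply Sigma.subtype_ext
    · exact (key2 y z hy hz hc).2.1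
    · exact (key2 y z hy hz hc).2.2

/-- **Frobenius' theorem**, inductive form. -/
theorem frobenius_aux : ∀ (N : ℕ) (G : Type u) [Group G] [Finite G], Nat.card G = N →
    ∀ m : ℕ, m ∣ Nat.card G → m ∣ Nat.card {g : G // g ^ m = 1} := by
  intro N
  induction N using Nat.strong_induction_on with
  | _ N IH =>
  intro G _ _ hN
  have inner : ∀ k m : ℕ, m * k = Nat.card G → m ∣ Nat.card {g : G // g ^ m = 1} := by
    intro k
    induction k using Nat.strong_induction_on with
    | _ k IHk =>
    intro m hmk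
    classical
    haveI : Fintype G := Fintype.ofFinite G
    have hGpos : 0 < Nat.card G := Nat.card_pos
    have hm0 : m ≠ 0 := by rintro rfl; rw [zero_mul] at hmk; omega
    have hk0 : k ≠ 0 := by rintro rfl; rw [mul_zero] at hmk; omega
    by_cases hk1 : k = 1
    · subst hk1
      rw [mul_one] at hmk
      have e : Nat.card {g : G // g ^ m = 1} = Nat.card G := by
        apply Nat.card_congr
        exact Equiv.subtypeUnivEquiv (fun g => by rw [hmk]; exact pow_card_eq_one')
      rw [e, hmk]
    obtain ⟨p, hp, hpk⟩ := Nat.exists_prime_and_dvd hk1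
    haveI : Fact p.Prime := ⟨hp⟩
    obtain ⟨k', rfl⟩ := hpk
    have hk'0 : k' ≠ 0 := by rintro rfl; exact hk0 (mul_zero p)
    have hk'lt : k' < p * k' := by
      have h2 := hp.two_le
      have h3 := Nat.pos_of_ne_zero hk'0
      nlinarith
    have h1 : m * p ∣ Nat.card {g : G // g ^ (m * p) = 1} :=
      IHk k' hk'lt (m * p) (by rw [← hmk]; ring)
    obtain ⟨a, s, hps, hms⟩ := Nat.exists_eq_pow_mul_and_not_dvd hm0 p hp.ne_one
    have hsplit : Nat.card {g : G // g ^ (m * p) = 1} = Nat.card {g : G // g ^ m = 1} +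
        Nat.card {g : G // g ^ (m * p) = 1 ∧ ¬ g ^ m = 1} :=
      card_split _ _ (fun g hg => by rw [pow_mul, hg, one_pow])
    have hD : m ∣ Nat.card {g : G // g ^ (m * p) = 1 ∧ ¬ g ^ m = 1} := by
      have hsp : Nat.gcd s p = 1 :=
        Nat.Coprime.symm ((Nat.Prime.coprime_iff_not_dvd hp).mpr hps)
      have hcop : (p ^ a).Coprime s :=
        Nat.Coprime.pow_left _ ((Nat.Prime.coprime_iff_not_dvd hp).mpr hps)
      have hcop1 : (p ^ (a + 1)).Coprime s :=
        Nat.Coprime.pow_left _ ((Nat.Prime.coprime_iff_not_dvd hp).mpr hps)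
      have hmp : m * p = p ^ (a + 1) * s := by rw [hms, pow_succ]; ring
      rw [hmp]
      subst hms
      apply Nat.Coprime.mul_dvd_of_dvd_of_dvd hcop
      · have e : Nat.card {g : G // g ^ (p ^ (a + 1) * s) = 1 ∧ ¬ g ^ (p ^ a * s) = 1} =
            Nat.card {g : G // orderOf g ∣ p ^ (a + 1) * s ∧ ¬ orderOf g ∣ p ^ a * s} := by
          apply Nat.card_congr
          exact Equiv.subtypeEquivRight (fun g => by
            rw [orderOf_dvd_iff_pow_eq_one, orderOf_dvd_iff_pow_eq_one])
        rw [e]
        apply dvd_card_of_orderOf G (fun d => d ∣ p ^ (a + 1) * s ∧ ¬ d ∣ p ^ a * s)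
        rintro d ⟨hd1, hd2⟩
        have hpd : p ^ (a + 1) ∣ d := by
          obtain ⟨y', z', hy', hz', rfl⟩ := (Nat.dvd_mul).mp hd1
          obtain ⟨j, hj, rfl⟩ := (Nat.dvd_prime_pow hp).mp hy'
          rcases Nat.lt_or_ge j (a + 1) with hlt | hge
          · exfalso; apply hd2
            exact Nat.mul_dvd_mul (pow_dvd_pow p (Nat.lt_succ_iff.mp hlt)) hz'
          · have hja : j = a + 1 := le_antisymm hj hge
            rw [hja]; exact dvd_mul_right _ _
        have h2 : p ^ a ∣ Nat.totient (p ^ (a + 1)) := by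
          rw [Nat.totient_prime_pow_succ hp]; exact dvd_mul_right _ _
        exact h2.trans (Nat.totient_dvd_of_dvd hpd)
      · have hT : ∀ y z : G, y ^ (p ^ (a + 1)) = 1 → z ^ s = 1 → Commute y z →
            (¬ (y * z) ^ (p ^ a * s) = 1 ↔ ¬ y ^ (p ^ a) = 1) := by
          intro y z hy hz hc
          have hz' : z ^ (p ^ a * s) = 1 := by rw [mul_comm, pow_mul, hz, one_pow]
          rw [hc.mul_pow, hz', mul_one]
          constructor
          · intro h h'; apply h; rw [pow_mul, h', one_pow]
          · intro h h'; apply h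
            have hd : orderOf y ∣ Nat.gcd (p ^ a * s) (p ^ a * p) :=
              Nat.dvd_gcd (orderOf_dvd_of_pow_eq_one h')
                (by rw [← pow_succ]; exact orderOf_dvd_of_pow_eq_one hy)
            rw [Nat.gcd_mul_left, hsp, mul_one] at hd
            exact orderOf_dvd_iff_pow_eq_one.mp hd
        have e : Nat.card {x : G // x ^ (p ^ (a + 1) * s) = 1 ∧ ¬ x ^ (p ^ a * s) = 1} =
            ∑ y : G, Nat.card {z : G // (y ^ (p ^ (a + 1)) = 1 ∧ ¬ y ^ (p ^ a) = 1) ∧
              Commute y z ∧ z ^ s = 1} :=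
          card_decomp (G := G) (p ^ (a + 1)) s hcop1 (fun x => ¬ x ^ (p ^ a * s) = 1)
            (fun y => ¬ y ^ (p ^ a) = 1) hT
        rw [e]
        apply dvd_sum_conj s (fun y : G => y ^ (p ^ (a + 1)) = 1 ∧ ¬ y ^ (p ^ a) = 1)
        · rintro g y ⟨h1, h2⟩
          refine ⟨by rw [conj_pow, h1]; group, ?_⟩
          rw [conj_pow, conj_eq_one_iff]
          exact h2
        · rintro y ⟨hy1, hy2⟩
          have hyC : y ∈ Subgroup.centralizer ({y} : Set G) := by
            rw [Subgroup.mem_centralizer_iff]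
            intro h hh; rw [Set.mem_singleton_iff] at hh; rw [hh]
          have hord : orderOf y = p ^ (a + 1) := orderOf_eq_prime_pow hy2 hy1
          have hy'c : (⟨y, hyC⟩ : Subgroup.centralizer ({y} : Set G)) ∈
              Subgroup.center (Subgroup.centralizer ({y} : Set G)) := by
            rw [Subgroup.mem_center_iff]
            intro c
            apply Subtype.ext
            have h3 := c.2
            rw [Subgroup.mem_centralizer_iff] at h3
            exact (h3 y (Set.mem_singleton y)).symm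
          have hZc : Subgroup.zpowers (⟨y, hyC⟩ : Subgroup.centralizer ({y} : Set G)) ≤
              Subgroup.center (Subgroup.centralizer ({y} : Set G)) :=
            (Subgroup.zpowers_le).mpr hy'c
          haveI hZn : (Subgroup.zpowers
              (⟨y, hyC⟩ : Subgroup.centralizer ({y} : Set G))).Normal :=
            ⟨fun n hn g => by
              have h4 := Subgroup.mem_center_iff.mp (hZc hn) g
              have e5 : g * n * g⁻¹ = n := by rw [h4]; group
              rw [e5]; exact hn⟩
          have hZcard : Nat.card (Subgroup.zpowers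
              (⟨y, hyC⟩ : Subgroup.centralizer ({y} : Set G))) = p ^ (a + 1) := by
            rw [Nat.card_zpowers, Subgroup.orderOf_mk, hord]
          have e3 := card_pow_eq_one_quot (Subgroup.zpowers
              (⟨y, hyC⟩ : Subgroup.centralizer ({y} : Set G))) hZc s
              (by rw [hZcard]; exact hcop1.symm)
          rw [e3]
          have hcq : Nat.card (Subgroup.centralizer ({y} : Set G) ⧸ Subgroup.zpowers
              (⟨y, hyC⟩ : Subgroup.centralizer ({y} : Set G))) * p ^ (a + 1) =
              Nat.card (Subgroup.centralizer ({y} : Set G)) := by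
            rw [← hZcard]
            exact (Subgroup.card_eq_card_quotient_mul_card_subgroup _).symm
          have hCG : (Subgroup.centralizer ({y} : Set G)).index *
              Nat.card (Subgroup.centralizer ({y} : Set G)) = Nat.card G := by
            rw [mul_comm]; exact (Subgroup.centralizer ({y} : Set G)).card_mul_index
          have hlt : Nat.card (Subgroup.centralizer ({y} : Set G) ⧸ Subgroup.zpowers
              (⟨y, hyC⟩ : Subgroup.centralizer ({y} : Set G))) < N := by
            rw [← hN, ← hCG, ← hcq]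
            have h2 : 2 ≤ p ^ (a + 1) := by
              calc 2 ≤ p := hp.two_le
                _ = p ^ 1 := (pow_one p).symm
                _ ≤ p ^ (a + 1) := Nat.pow_le_pow_right hp.pos (by omega)
            have h3 : 0 < Nat.card (Subgroup.centralizer ({y} : Set G) ⧸ Subgroup.zpowers
              (⟨y, hyC⟩ : Subgroup.centralizer ({y} : Set G))) := Nat.card_pos
            have h4 : 0 < (Subgroup.centralizer ({y} : Set G)).index :=
              Nat.pos_of_ne_zero Subgroup.index_ne_zero_of_finite
            nlinarith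
          have hih := IH _ hlt (Subgroup.centralizer ({y} : Set G) ⧸ Subgroup.zpowers
              (⟨y, hyC⟩ : Subgroup.centralizer ({y} : Set G))) rfl
              (Nat.gcd s (Nat.card (Subgroup.centralizer ({y} : Set G) ⧸ Subgroup.zpowers
              (⟨y, hyC⟩ : Subgroup.centralizer ({y} : Set G))))) (Nat.gcd_dvd_right _ _)
          have e4 : Nat.card {c : Subgroup.centralizer ({y} : Set G) ⧸ Subgroup.zpowers
              (⟨y, hyC⟩ : Subgroup.centralizer ({y} : Set G)) //
              c ^ (Nat.gcd s (Nat.card (Subgroup.centralizer ({y} : Set G) ⧸ Subgroup.zpowers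
              (⟨y, hyC⟩ : Subgroup.centralizer ({y} : Set G))))) = 1} =
              Nat.card {c : Subgroup.centralizer ({y} : Set G) ⧸ Subgroup.zpowers
              (⟨y, hyC⟩ : Subgroup.centralizer ({y} : Set G)) // c ^ s = 1} := by
            apply Nat.card_congr
            exact Equiv.subtypeEquivRight (fun c => by
              constructor
              · intro h
                exact orderOf_dvd_iff_pow_eq_one.mp
                  ((orderOf_dvd_of_pow_eq_one h).trans (Nat.gcd_dvd_left _ _))
              · intro h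
                exact orderOf_dvd_iff_pow_eq_one.mp
                  (Nat.dvd_gcd (orderOf_dvd_of_pow_eq_one h) (orderOf_dvd_natCard c)))
          rw [e4] at hih
          have h5 : s ∣ (Subgroup.centralizer ({y} : Set G)).index *
              Nat.gcd s (Nat.card (Subgroup.centralizer ({y} : Set G) ⧸ Subgroup.zpowers
              (⟨y, hyC⟩ : Subgroup.centralizer ({y} : Set G)))) := by
            rw [← Nat.gcd_mul_left]
            apply Nat.dvd_gcd (dvd_mul_left _ _)
            have h6 : s ∣ (Subgroup.centralizer ({y} : Set G)).index *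
                Nat.card (Subgroup.centralizer ({y} : Set G) ⧸ Subgroup.zpowers
                (⟨y, hyC⟩ : Subgroup.centralizer ({y} : Set G))) * p ^ (a + 1) := by
              rw [mul_assoc, hcq, hCG, ← hmk]
              exact (dvd_mul_left s (p ^ a)).trans (dvd_mul_right _ _)
            exact Nat.Coprime.dvd_of_dvd_mul_right hcop1.symm h6
          exact h5.trans (Nat.mul_dvd_mul_left _ hih)
    exact (Nat.dvd_add_left hD).mp (hsplit ▸ (dvd_mul_right m p).trans h1)
  intro m hm
  obtain ⟨k, hk⟩ := hm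
  exact inner k m hk.symm

/-- **Frobenius' theorem**: if `m ∣ |G|` then the number of solutions of `x ^ m = 1` is a
multiple of `m`. -/
theorem frobenius (G : Type u) [Group G] [Finite G] (m : ℕ) (hm : m ∣ Nat.card G) :
    m ∣ Nat.card {g : G // g ^ m = 1} :=
  frobenius_aux (Nat.card G) G rfl m hm

/-- Frobenius for arbitrary exponents: `gcd(m, |G|)` divides the number of solutions. -/
theorem frobenius_gcd (G : Type u) [Group G] [Finite G] (m : ℕ) :
    Nat.gcd m (Nat.card G) ∣ Nat.card {g : G // g ^ m = 1} := by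
  have h := frobenius G (Nat.gcd m (Nat.card G)) (Nat.gcd_dvd_right _ _)
  have e : Nat.card {g : G // g ^ (Nat.gcd m (Nat.card G)) = 1} =
      Nat.card {g : G // g ^ m = 1} := by
    apply Nat.card_congr
    exact Equiv.subtypeEquivRight (fun c => by
      constructor
      · intro h
        exact orderOf_dvd_iff_pow_eq_one.mp
          ((orderOf_dvd_of_pow_eq_one h).trans (Nat.gcd_dvd_left _ _))
      · intro h
        exact orderOf_dvd_iff_pow_eq_one.mp
          (Nat.dvd_gcd (orderOf_dvd_of_pow_eq_one h) (orderOf_dvd_natCard c)))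
  rw [e] at h
  exact h

end Cfsg.Agent.Helper20
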