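import Mathlib
import Cfsg.Agent.Helper20.NS5c

set_option autoImplicit false

namespace Cfsg.Agent.Helper20.NS5b

open Cfsg.Agent.Helper20.NS5c

variable {ι : Type} [Fintype ι] [DecidableEq ι] {F : Type*} [Field F]

variable (Q : (ι → F) → F)

/-- (R2, matrix form) In characteristic two, an isometry `x` with `x * x = z • 1` fixes a
nonsingular vector, provided totally singular subspaces have less than half the dimension. -/
theorem invol_fix_vec
    (hsm : ∀ (c : F) (v : ι → F), Q (c • v) = c ^ 2 * Q v) (hch : (2 : F) = 0)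
    (hex : ∃ v : ι → F, Q v = 1)
    (hts : ∀ W : Submodule F (ι → F), (∀ w ∈ W, Q w = 0) →
      2 * Module.finrank F ↥W < Fintype.card ι)
    (x : Matrix ι ι F) (hx : ∀ v : ι → F, Q (x.mulVec v) = Q v)
    (z : F) (hx2 : x * x = z • (1 : Matrix ι ι F)) :
    ∃ v : ι → F, Q v ≠ 0 ∧ x.mulVec v = v := by
  -- z = 1
  have hz : z = 1 := by
    obtain ⟨v, hv⟩ := hex
    have h1 : Q (x.mulVec (x.mulVec v)) = Q v := by rw [hx, hx]
    rw [Matrix.mulVec_mulVec, hx2, Matrix.smul_mulVec, Matrix.one_mulVec, hsm, hv, mul_one] at h1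
    exact eq_one_of_sq hch z h1
  subst hz
  rw [one_smul] at hx2
  have h11 : (1 : F) + 1 = 0 := by rw [← hch]; norm_num
  have hvv : ∀ v : ι → F, v + v = 0 := by
    intro v
    have : v + v = ((1 : F) + 1) • v := by rw [add_smul, one_smul]
    rw [this, h11, zero_smul]
  let g : (ι → F) →ₗ[F] (ι → F) := Matrix.toLin' x + LinearMap.id
  have hg : ∀ v, g v = x.mulVec v + v := by
    intro v
    simp [g, Matrix.toLin'_apply]
  have hgg : ∀ v, g (g v) = 0 := by
    intro v
    rw [hg, hg, Matrix.mulVec_add, Matrix.mulVec_mulVec, hx2, Matrix.one_mulVec]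
    have : v + x.mulVec v + (x.mulVec v + v) = (v + v) + (x.mulVec v + x.mulVec v) := by abel
    rw [this, hvv, hvv, add_zero]
  have hle : LinearMap.range g ≤ LinearMap.ker g := by
    rintro _ ⟨v, rfl⟩
    exact LinearMap.mem_ker.mpr (hgg v)
  have h1 := LinearMap.finrank_range_add_finrank_ker g
  have h2 := Submodule.finrank_mono hle
  have h3 : Module.finrank F (ι → F) = Fintype.card ι := Module.finrank_fintype_fun_eq_card F
  have h4 : ¬ (∀ w ∈ LinearMap.ker g, Q w = 0) := by
    intro h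
    have := hts _ h
    omega
  simp only [not_forall] at h4
  obtain ⟨w, hwK, hw⟩ := h4
  refine ⟨w, hw, ?_⟩
  have h5 : x.mulVec w + w = 0 := by
    rw [← hg]; exact LinearMap.mem_ker.mp hwK
  have h6 : x.mulVec w = x.mulVec w + (w + w) := by rw [hvv, add_zero]
  rw [h6, ← add_assoc, h5, zero_add]

/-- (R2) In characteristic two, an element `x` of the isometry group with `x ^ 2` scalar leaves
a nonsingular point invariant, provided totally singular subspaces have less than half the
dimension. -/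
theorem invol_fix_point
    (hsm : ∀ (c : F) (v : ι → F), Q (c • v) = c ^ 2 * Q v) (hch : (2 : F) = 0)
    (hex : ∃ v : ι → F, Q v = 1)
    (hts : ∀ W : Submodule F (ι → F), (∀ w ∈ W, Q w = 0) →
      2 * Module.finrank F ↥W < Fintype.card ι)
    (x : GL ι F) (hx : x ∈ Cfsg.isometryGroup F Q)
    (hx2 : ∃ z : F, ((x ^ 2 : GL ι F) : Matrix ι ι F) = z • (1 : Matrix ι ι F)) :
    ∃ W : Submodule F (ι → F), (Module.finrank F ↥W = 1 ∧ ∃ v ∈ W, Q v ≠ 0) ∧
      W.map (Matrix.toLin' (x : Matrix ι ι F)) ≤ W := by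
  obtain ⟨z, hz⟩ := hx2
  have hz' : (x : Matrix ι ι F) * (x : Matrix ι ι F) = z • (1 : Matrix ι ι F) := by
    rw [← hz, pow_two]; rfl
  obtain ⟨v, hQv, hxv⟩ := invol_fix_vec Q hsm hch hex hts (x : Matrix ι ι F)
    ((mem_iso_iff Q x).mp hx) z hz'
  have hv0 : v ≠ 0 := by
    intro h0
    rw [h0] at hQv
    exact hQv (Q_zero Q hsm)
  refine ⟨F ∙ v, ⟨finrank_span_singleton hv0, v, Submodule.mem_span_singleton_self _, hQv⟩, ?_⟩
  rw [Submodule.map_span_le]
  intro w hw
  rw [Set.mem_singleton_iff] at hw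
  subst hw
  rw [Matrix.toLin'_apply, hxv]
  exact Submodule.mem_span_singleton_self _

end Cfsg.Agent.Helper20.NS5b
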