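import Mathlib
import Cfsg.Agent.Helper27.NS1
import Cfsg.Agent.Helper20.NS5b

set_option autoImplicit false
open scoped MatrixGroups

namespace Cfsg.Agent.Helper20.NS5d

open Cfsg.Agent.Helper20.NS5c Cfsg.Agent.Helper20.NS5b

variable {ι : Type} [Fintype ι] [DecidableEq ι] {F : Type*} [Field F] [Fintype F]

/-- In characteristic two an isometry of odd order lies in `Ω`. -/
theorem mem_omega_of_pow (Q : (ι → F) → F) (hQ : Cfsg.Geo.IsNondegenerateQuadraticForm Q)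
    (hch : (2 : F) = 0) (h : Fintype.card F ≠ 2 ∨ Fintype.card ι ≠ 4) (hne : Nonempty ι)
    (hex : ∃ v : ι → F, Q v = 1)
    (x : GL ι F) (hx : x ∈ Cfsg.isometryGroup F Q) (r : ℕ) (hr : Odd r) (hxr : x ^ r = 1) :
    x ∈ Cfsg.Geo.omegaGL Q := by
  obtain ⟨v, hv⟩ := hex
  have hv' : Q v ≠ 0 := by rw [hv]; exact one_ne_zero
  let g : ↥(Cfsg.isometryGroup F Q) := ⟨x, hx⟩
  have hgr : g ^ r = 1 := Subtype.ext hxr
  have h1 : (Cfsg.Agent.Helper27.NS1.dkHom Q hQ h) g ^ r = 1 := by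
    rw [← map_pow, hgr, map_one]
  have h2 : ∀ t : Multiplicative (ZMod 2), t * t = 1 := by decide
  have h3 : (Cfsg.Agent.Helper27.NS1.dkHom Q hQ h) g = 1 := by
    obtain ⟨k, hk⟩ := hr
    rw [hk, pow_succ, pow_mul, pow_two, h2, one_pow, one_mul] at h1
    exact h1
  have h4 : Cfsg.Agent.Helper4.Dickson.dk (g : GL ι F) = 0 := by
    have h5 : Multiplicative.ofAdd (Cfsg.Agent.Helper4.Dickson.dk (g : GL ι F)) = 1 := h3
    exact ofAdd_eq_one.mp h5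
  have h6 := Cfsg.Agent.Helper27.NS1.mem_of_dk_eq_zero Q hQ hch h hne v hv' g h4
  exact ⟨g, h6, rfl⟩

/-- Final assembly for the minus-type statement on nonsingular points in characteristic two,
modulo the Witt bound `hts` and the existence `hnf` of an isometry of odd prime order without
fixed vectors of norm one. -/
theorem assemble (hch : (2 : F) = 0) (d : ℕ) (hd : 4 ≤ d) (a b : F)
    (hab : ∀ x y : F, x ^ 2 + a * x * y + b * y ^ 2 = 0 → x = 0 ∧ y = 0) (r : ℕ) [Fact r.Prime]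
    (hrΩ : r ∣ Nat.card {W : Submodule F ((Fin (d - 1) ⊕ Fin (d - 1)) ⊕ Fin 2 → F) //
      Module.finrank F ↥W = 1 ∧ ∃ v ∈ W, Cfsg.quadFormMinus (d - 1) F a b v ≠ 0})
    (hts : ∀ W : Submodule F ((Fin (d - 1) ⊕ Fin (d - 1)) ⊕ Fin 2 → F),
      (∀ w ∈ W, Cfsg.quadFormMinus (d - 1) F a b w = 0) → Module.finrank F ↥W ≤ d - 1)
    (hnf : r ≠ 2 →
      r ∣ Nat.card {v : (Fin (d - 1) ⊕ Fin (d - 1)) ⊕ Fin 2 → F //
        Cfsg.quadFormMinus (d - 1) F a b v = 1} →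
      ∃ x : GL ((Fin (d - 1) ⊕ Fin (d - 1)) ⊕ Fin 2) F,
        x ∈ Cfsg.isometryGroup F (Cfsg.quadFormMinus (d - 1) F a b) ∧ x ^ r = 1 ∧
        ∀ v : (Fin (d - 1) ⊕ Fin (d - 1)) ⊕ Fin 2 → F,
          Cfsg.quadFormMinus (d - 1) F a b v = 1 →
          (x : Matrix ((Fin (d - 1) ⊕ Fin (d - 1)) ⊕ Fin 2) ((Fin (d - 1) ⊕ Fin (d - 1)) ⊕ Fin 2) F).mulVec v ≠ v) :
    (∀ x : GL ((Fin (d - 1) ⊕ Fin (d - 1)) ⊕ Fin 2) F, x ∈ Cfsg.Geo.omegaGL (Cfsg.quadFormMinus (d - 1) F a b) →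
      (∃ z : F, ((x ^ r : GL ((Fin (d - 1) ⊕ Fin (d - 1)) ⊕ Fin 2) F) : Matrix ((Fin (d - 1) ⊕ Fin (d - 1)) ⊕ Fin 2) ((Fin (d - 1) ⊕ Fin (d - 1)) ⊕ Fin 2) F) = z • (1 : Matrix ((Fin (d - 1) ⊕ Fin (d - 1)) ⊕ Fin 2) ((Fin (d - 1) ⊕ Fin (d - 1)) ⊕ Fin 2) F)) →
      (∀ z : F, (x : Matrix ((Fin (d - 1) ⊕ Fin (d - 1)) ⊕ Fin 2) ((Fin (d - 1) ⊕ Fin (d - 1)) ⊕ Fin 2) F) ≠ z • (1 : Matrix ((Fin (d - 1) ⊕ Fin (d - 1)) ⊕ Fin 2) ((Fin (d - 1) ⊕ Fin (d - 1)) ⊕ Fin 2) F)) →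
      ∃ W : Submodule F ((Fin (d - 1) ⊕ Fin (d - 1)) ⊕ Fin 2 → F), (Module.finrank F ↥W = 1 ∧ ∃ v ∈ W, Cfsg.quadFormMinus (d - 1) F a b v ≠ 0) ∧ W.map (Matrix.toLin' (x : Matrix ((Fin (d - 1) ⊕ Fin (d - 1)) ⊕ Fin 2) ((Fin (d - 1) ⊕ Fin (d - 1)) ⊕ Fin 2) F)) ≤ W) ↔ r = 2 := by
  have hsm := minus_smul (F := F) (d - 1) a b
  have hex := minus_exists_one (F := F) (d - 1) a b
  have hcard : Fintype.card ((Fin (d - 1) ⊕ Fin (d - 1)) ⊕ Fin 2) = 2 * d := by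
    simp only [Fintype.card_sum, Fintype.card_fin]
    omega
  constructor
  · intro hall
    by_contra hr2
    have hdv := dvd_card_norm_one (Cfsg.quadFormMinus (d - 1) F a b) hsm hch r hrΩ
    obtain ⟨x, hxO, hxr, hxnf⟩ := hnf hr2 hdv
    have hxiso := (mem_iso_iff (Cfsg.quadFormMinus (d - 1) F a b) x).mp hxO
    have hsq : ∀ c : F, ∃ s, s * s = c := by
      intro c
      obtain ⟨s, hs⟩ := exists_sq hch c
      exact ⟨s, by rw [← pow_two]; exact hs⟩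
    have hQ := Cfsg.Agent.Helper4.OCenter.minus_nd_two F (d - 1) a b hch hsq hab
    have hodd : Odd r := (Fact.out : r.Prime).odd_of_ne_two hr2
    have hxΩ : x ∈ Cfsg.Geo.omegaGL (Cfsg.quadFormMinus (d - 1) F a b) :=
      mem_omega_of_pow _ hQ hch (Or.inr (by rw [hcard]; omega)) ⟨Sum.inr 0⟩ hex x hxO r hodd hxr
    have hW := hall x hxΩ ⟨1, by rw [hxr, one_smul]; rfl⟩
      (not_scalar_of_no_fix _ hsm hch _ hxiso hex hxnf)
    obtain ⟨v, hv1, hv2⟩ := exists_fixed_of_mem _ hsm hch x hxO hW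
    exact hxnf v hv1 hv2
  · rintro rfl x hxΩ hx2 -
    have hxO : x ∈ Cfsg.isometryGroup F (Cfsg.quadFormMinus (d - 1) F a b) := by
      obtain ⟨g, -, rfl⟩ := hxΩ
      exact g.2
    refine invol_fix_point _ hsm hch hex ?_ x hxO hx2
    intro W hW
    have := hts W hW
    rw [hcard]
    omega

end Cfsg.Agent.Helper20.NS5d
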