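import Mathlib
import Cfsg.Prelude.Def_Classical
import Cfsg.Agent.Helper27.SpD2
import Cfsg.Agent.S0245
import Cfsg.Agent.S0246

set_option autoImplicit false

namespace Cfsg.Agent.Helper20.PSpRP

open Matrix Cfsg.Agent.Helper27.SpD2

variable {F : Type*} [Field F] (i k : ℕ)

/-- The block matrix `1 ⊕ U`. -/
def cM (U : Matrix (Fin k ⊕ Fin k) (Fin k ⊕ Fin k) F) :
    Matrix (Fin (i + k) ⊕ Fin (i + k)) (Fin (i + k) ⊕ Fin (i + k)) F :=
  (fromBlocks 1 0 0 U).submatrix (rho i k).symm (rho i k).symm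

theorem cM_mul (U₁ U₂ : Matrix (Fin k ⊕ Fin k) (Fin k ⊕ Fin k) F) :
    cM i k (U₁ * U₂) = cM i k U₁ * cM i k U₂ := by
  unfold cM
  rw [Matrix.submatrix_mul_equiv, fromBlocks_multiply]
  simp

theorem cM_one : cM i k (1 : Matrix (Fin k ⊕ Fin k) (Fin k ⊕ Fin k) F) = 1 := by
  unfold cM
  rw [fromBlocks_one, Matrix.submatrix_one_equiv]

theorem cM_mem (U : Matrix (Fin k ⊕ Fin k) (Fin k ⊕ Fin k) F)
    (hU : U ∈ symplecticGroup (Fin k) F) : cM i k U ∈ symplecticGroup (Fin (i + k)) F := by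
  rw [SymplecticGroup.mem_iff]
  have hJ : J (Fin (i + k)) F =
      (fromBlocks (J (Fin i) F) 0 0 (J (Fin k) F)).submatrix (rho i k).symm (rho i k).symm := by
    rw [← J_split]
    simp
  rw [hJ]
  unfold cM
  rw [Matrix.transpose_submatrix, Matrix.submatrix_mul_equiv, Matrix.submatrix_mul_equiv,
    fromBlocks_transpose, fromBlocks_multiply, fromBlocks_multiply]
  have h1 := SymplecticGroup.mem_iff.mp hU
  simp [h1]

theorem cM_eq_one (U : Matrix (Fin k ⊕ Fin k) (Fin k ⊕ Fin k) F) (h : cM i k U = 1) : U = 1 := by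
  ext a b
  have h1 := congrFun (congrFun h (rho i k (Sum.inr a))) (rho i k (Sum.inr b))
  unfold cM at h1
  rw [Matrix.submatrix_apply, Equiv.symm_apply_apply, Equiv.symm_apply_apply,
    Matrix.fromBlocks_apply₂₂] at h1
  rw [h1, Matrix.one_apply, Matrix.one_apply]
  simp only [(rho i k).injective.eq_iff, Sum.inr.injEq]

/-- The second block embedding of symplectic groups. -/
def cHom : ↥(symplecticGroup (Fin k) F) →* ↥(symplecticGroup (Fin (i + k)) F) where
  toFun u := ⟨cM i k (u : Matrix (Fin k ⊕ Fin k) (Fin k ⊕ Fin k) F), cM_mem i k _ u.2⟩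
  map_one' := Subtype.ext (cM_one i k)
  map_mul' _ _ := Subtype.ext (cM_mul i k _ _)

theorem bM_cM_comm (Y : Matrix (Fin i ⊕ Fin i) (Fin i ⊕ Fin i) F)
    (U : Matrix (Fin k ⊕ Fin k) (Fin k ⊕ Fin k) F) :
    bM i k Y * cM i k U = cM i k U * bM i k Y := by
  unfold bM cM
  rw [Matrix.submatrix_mul_equiv, Matrix.submatrix_mul_equiv, fromBlocks_multiply,
    fromBlocks_multiply]
  simp

theorem bHom_inj : Function.Injective (bHom (F := F) i k) := by
  rw [injective_iff_map_eq_one]
  intro y hy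
  apply Subtype.ext
  apply bM_eq_one i k
  exact congrArg Subtype.val hy

theorem cHom_inj : Function.Injective (cHom (F := F) i k) := by
  rw [injective_iff_map_eq_one]
  intro u hu
  apply Subtype.ext
  apply cM_eq_one i k
  exact congrArg Subtype.val hu

/-- `Y ⊕ 1` scalar forces `Y = 1` (when the second block is non-empty). -/
theorem bM_scalar (hk : 1 ≤ k) (Y : Matrix (Fin i ⊕ Fin i) (Fin i ⊕ Fin i) F) (μ : F)
    (h : bM i k Y = μ • (1 : Matrix (Fin (i + k) ⊕ Fin (i + k)) (Fin (i + k) ⊕ Fin (i + k)) F)) :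
    Y = 1 := by
  have hμ : μ = 1 := by
    have j : Fin k := ⟨0, by omega⟩
    have h1 := congrFun (congrFun h (rho i k (Sum.inr (Sum.inl j)))) (rho i k (Sum.inr (Sum.inl j)))
    unfold bM at h1
    rw [Matrix.submatrix_apply, Equiv.symm_apply_apply, Matrix.fromBlocks_apply₂₂] at h1
    simpa using h1.symm
  rw [hμ, one_smul] at h
  exact bM_eq_one i k Y h

/-- `1 ⊕ U` scalar forces `U = 1` (when the first block is non-empty). -/
theorem cM_scalar (hi : 1 ≤ i) (U : Matrix (Fin k ⊕ Fin k) (Fin k ⊕ Fin k) F) (μ : F)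
    (h : cM i k U = μ • (1 : Matrix (Fin (i + k) ⊕ Fin (i + k)) (Fin (i + k) ⊕ Fin (i + k)) F)) :
    U = 1 := by
  have hμ : μ = 1 := by
    have j : Fin i := ⟨0, by omega⟩
    have h1 := congrFun (congrFun h (rho i k (Sum.inl (Sum.inl j)))) (rho i k (Sum.inl (Sum.inl j)))
    unfold cM at h1
    rw [Matrix.submatrix_apply, Equiv.symm_apply_apply, Matrix.fromBlocks_apply₁₁] at h1
    simpa using h1.symm
  rw [hμ, one_smul] at h
  exact cM_eq_one i k U h

/-- (E1) `PSp_{2n}(q)` has an element of order `r * p` when `r ≠ p` divides `q^(2m) - 1` for some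
`1 ≤ m < n`. -/
theorem exists_rp {F : Type*} [Field F] [Fintype F] (p : ℕ) [Fact p.Prime] [CharP F p]
    (n m r : ℕ) (hr : r.Prime) (hrp : r ≠ p) (hm1 : 1 ≤ m) (hmn : m + 1 ≤ n)
    (hdiv : r ∣ Fintype.card F ^ (2 * m) - 1) :
    ∃ g : Cfsg.PSp n F, orderOf g = r * p := by
  classical
  obtain ⟨k, rfl⟩ : ∃ k, n = m + k := ⟨n - m, by omega⟩
  have hk : 1 ≤ k := by omega
  haveI : Fact r.Prime := ⟨hr⟩
  have hp : p.Prime := Fact.out
  -- an element of order r in Sp_{2m}
  obtain ⟨y, hy⟩ : ∃ y : ↥(symplecticGroup (Fin m) F), orderOf y = r := by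
    apply exists_prime_orderOf_dvd_card'
    rw [Cfsg.Agent.S0245.result (rfl : Fintype.card F = Fintype.card F) m]
    apply Dvd.dvd.mul_left
    have h1 : m - 1 ∈ Finset.range m := Finset.mem_range.2 (by omega)
    have h2 := Finset.dvd_prod_of_mem (fun j => Fintype.card F ^ (2 * (j + 1)) - 1) h1
    have h3 : 2 * (m - 1 + 1) = 2 * m := by omega
    simp only [h3] at h2
    exact hdiv.trans h2
  -- an element of order p in Sp_{2k}
  obtain ⟨u, hu⟩ : ∃ u : ↥(symplecticGroup (Fin k) F), orderOf u = p := by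
    apply exists_prime_orderOf_dvd_card'
    rw [Cfsg.Agent.S0245.result (rfl : Fintype.card F = Fintype.card F) k]
    apply Dvd.dvd.mul_right
    obtain ⟨e, -, he⟩ := FiniteField.card F p
    rw [he]
    exact dvd_pow (dvd_pow_self p e.ne_zero) (by positivity)
  set A : ↥(symplecticGroup (Fin (m + k)) F) := bHom m k y with hA
  set B : ↥(symplecticGroup (Fin (m + k)) F) := cHom m k u with hB
  have hAB : Commute A B := by
    apply Subtype.ext
    exact bM_cM_comm m k _ _
  have hAr : A ^ r = 1 := by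
    rw [hA, ← map_pow, ← hy, pow_orderOf_eq_one, map_one]
  have hBp : B ^ p = 1 := by
    rw [hB, ← map_pow, ← hu, pow_orderOf_eq_one, map_one]
  have hy1 : y ≠ 1 := by
    intro h1
    rw [h1, orderOf_one] at hy
    exact hr.one_lt.ne hy
  have hu1 : u ≠ 1 := by
    intro h1
    rw [h1, orderOf_one] at hu
    exact hp.one_lt.ne hu
  have hAc : A ∉ Subgroup.center (symplecticGroup (Fin (m + k)) F) := by
    intro hc
    obtain ⟨μ, hμ⟩ := Cfsg.Agent.S0246.scalar (m + k) A hc
    have h1 := bM_scalar m k hk _ μ hμ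
    exact hy1 (Subtype.ext h1)
  have hBc : B ∉ Subgroup.center (symplecticGroup (Fin (m + k)) F) := by
    intro hc
    obtain ⟨μ, hμ⟩ := Cfsg.Agent.S0246.scalar (m + k) B hc
    have h1 := cM_scalar m k hm1 _ μ hμ
    exact hu1 (Subtype.ext h1)
  set a : Cfsg.PSp (m + k) F := QuotientGroup.mk A with ha
  set b : Cfsg.PSp (m + k) F := QuotientGroup.mk B with hb
  have har : orderOf a = r := by
    have h1 : a ^ r = 1 := by
      rw [ha, ← QuotientGroup.mk_pow, hAr]; rfl
    have h2 : a ≠ 1 := by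
      intro h
      exact hAc ((QuotientGroup.eq_one_iff A).mp h)
    rcases (Nat.dvd_prime hr).mp (orderOf_dvd_of_pow_eq_one h1) with h3 | h3
    · exact absurd (orderOf_eq_one_iff.mp h3) h2
    · exact h3
  have hbp : orderOf b = p := by
    have h1 : b ^ p = 1 := by
      rw [hb, ← QuotientGroup.mk_pow, hBp]; rfl
    have h2 : b ≠ 1 := by
      intro h
      exact hBc ((QuotientGroup.eq_one_iff B).mp h)
    rcases (Nat.dvd_prime hp).mp (orderOf_dvd_of_pow_eq_one h1) with h3 | h3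
    · exact absurd (orderOf_eq_one_iff.mp h3) h2
    · exact h3
  have hab : Commute a b := by
    show a * b = b * a
    rw [ha, hb, ← QuotientGroup.mk_mul, ← QuotientGroup.mk_mul, hAB.eq]
  refine ⟨a * b, ?_⟩
  have hcop : (orderOf a).Coprime (orderOf b) := by
    rw [har, hbp]
    exact (Nat.coprime_primes hr hp).mpr hrp
  rw [hab.orderOf_mul_eq_mul_orderOf_of_coprime hcop, har, hbp]

end Cfsg.Agent.Helper20.PSpRP
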