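import Mathlib
import Cfsg.Prelude.Def_Classical
import Cfsg.Agent.Helper27.SpD2
import Cfsg.Agent.S0245
import Cfsg.Agent.S0246
import Cfsg.Agent.Helper20.PSpRP

set_option autoImplicit false

namespace Cfsg.Agent.Helper20.PSpRS

open Matrix Cfsg.Agent.Helper27.SpD2 Cfsg.Agent.Helper20.PSpRP

/-- (P5) `PSp_{2n}(q)` has an element of order `r * s` when `r ∣ q^(2a) - 1`, `s ∣ q^(2b) - 1`
with `a + b ≤ n` (block-diagonal elements). -/
theorem exists_rs_blocks {F : Type*} [Field F] [Fintype F] (p : ℕ) [Fact p.Prime] [CharP F p]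
    (n a b r s : ℕ) (hr : r.Prime) (hs : s.Prime) (hr2 : r ≠ 2) (hs2 : s ≠ 2) (hrs : r ≠ s)
    (ha : 1 ≤ a) (hb : 1 ≤ b) (hab : a + b ≤ n)
    (hra : r ∣ Fintype.card F ^ (2 * a) - 1) (hsb : s ∣ Fintype.card F ^ (2 * b) - 1) :
    ∃ g : Cfsg.PSp n F, orderOf g = r * s := by
  classical
  obtain ⟨k, rfl⟩ : ∃ k, n = a + k := ⟨n - a, by omega⟩
  have hk : 1 ≤ k := by omega
  have hbk : b ≤ k := by omega
  haveI : Fact r.Prime := ⟨hr⟩
  haveI : Fact s.Prime := ⟨hs⟩
  -- an element of order r in Sp_{2a}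
  obtain ⟨y, hy⟩ : ∃ y : ↥(symplecticGroup (Fin a) F), orderOf y = r := by
    apply exists_prime_orderOf_dvd_card'
    rw [Cfsg.Agent.S0245.result (rfl : Fintype.card F = Fintype.card F) a]
    apply Dvd.dvd.mul_left
    have h1 : a - 1 ∈ Finset.range a := Finset.mem_range.2 (by omega)
    have h2 := Finset.dvd_prod_of_mem (fun j => Fintype.card F ^ (2 * (j + 1)) - 1) h1
    have h3 : 2 * (a - 1 + 1) = 2 * a := by omega
    simp only [h3] at h2
    exact hra.trans h2
  -- an element of order s in Sp_{2k}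
  obtain ⟨u, hu⟩ : ∃ u : ↥(symplecticGroup (Fin k) F), orderOf u = s := by
    apply exists_prime_orderOf_dvd_card'
    rw [Cfsg.Agent.S0245.result (rfl : Fintype.card F = Fintype.card F) k]
    apply Dvd.dvd.mul_left
    have h1 : b - 1 ∈ Finset.range k := Finset.mem_range.2 (by omega)
    have h2 := Finset.dvd_prod_of_mem (fun j => Fintype.card F ^ (2 * (j + 1)) - 1) h1
    have h3 : 2 * (b - 1 + 1) = 2 * b := by omega
    simp only [h3] at h2
    exact hsb.trans h2
  set A : ↥(symplecticGroup (Fin (a + k)) F) := bHom a k y with hA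
  set B : ↥(symplecticGroup (Fin (a + k)) F) := cHom a k u with hB
  have hAB : Commute A B := by
    apply Subtype.ext
    exact bM_cM_comm a k _ _
  have hAr : A ^ r = 1 := by
    rw [hA, ← map_pow, ← hy, pow_orderOf_eq_one, map_one]
  have hBs : B ^ s = 1 := by
    rw [hB, ← map_pow, ← hu, pow_orderOf_eq_one, map_one]
  have hy1 : y ≠ 1 := by
    intro h1
    rw [h1, orderOf_one] at hy
    exact hr.one_lt.ne hy
  have hu1 : u ≠ 1 := by
    intro h1
    rw [h1, orderOf_one] at hu
    exact hs.one_lt.ne hu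
  have hAc : A ∉ Subgroup.center (symplecticGroup (Fin (a + k)) F) := by
    intro hc
    obtain ⟨μ, hμ⟩ := Cfsg.Agent.S0246.scalar (a + k) A hc
    have h1 := bM_scalar a k hk _ μ hμ
    exact hy1 (Subtype.ext h1)
  have hBc : B ∉ Subgroup.center (symplecticGroup (Fin (a + k)) F) := by
    intro hc
    obtain ⟨μ, hμ⟩ := Cfsg.Agent.S0246.scalar (a + k) B hc
    have h1 := cM_scalar a k ha _ μ hμ
    exact hu1 (Subtype.ext h1)
  set x : Cfsg.PSp (a + k) F := QuotientGroup.mk A with hx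
  set z : Cfsg.PSp (a + k) F := QuotientGroup.mk B with hz
  have hxr : orderOf x = r := by
    have h1 : x ^ r = 1 := by
      rw [hx, ← QuotientGroup.mk_pow, hAr]; rfl
    have h2 : x ≠ 1 := by
      intro h
      exact hAc ((QuotientGroup.eq_one_iff A).mp h)
    rcases (Nat.dvd_prime hr).mp (orderOf_dvd_of_pow_eq_one h1) with h3 | h3
    · exact absurd (orderOf_eq_one_iff.mp h3) h2
    · exact h3
  have hzs : orderOf z = s := by
    have h1 : z ^ s = 1 := by
      rw [hz, ← QuotientGroup.mk_pow, hBs]; rfl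
    have h2 : z ≠ 1 := by
      intro h
      exact hBc ((QuotientGroup.eq_one_iff B).mp h)
    rcases (Nat.dvd_prime hs).mp (orderOf_dvd_of_pow_eq_one h1) with h3 | h3
    · exact absurd (orderOf_eq_one_iff.mp h3) h2
    · exact h3
  have hxz : Commute x z := by
    show x * z = z * x
    rw [hx, hz, ← QuotientGroup.mk_mul, ← QuotientGroup.mk_mul, hAB.eq]
  refine ⟨x * z, ?_⟩
  have hcop : (orderOf x).Coprime (orderOf z) := by
    rw [hxr, hzs]
    exact (Nat.coprime_primes hr hs).mpr hrs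
  rw [hxz.orderOf_mul_eq_mul_orderOf_of_coprime hcop, hxr, hzs]

end Cfsg.Agent.Helper20.PSpRS
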