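import Mathlib
import Cfsg.Prelude.Def_Classical
import Cfsg.Agent.Helper14.SylTorusSp
import Cfsg.Agent.S2394

set_option autoImplicit false

namespace Cfsg.Agent.Helper20.PSpRS2

/-- (P6b) `Sp_{2n}(q)` contains an element of every order `m ∣ q^e + 1`, `0 < e ≤ n`. -/
theorem sp_of_dvd_add {F : Type*} [Field F] [Fintype F] (n e m : ℕ) (he : 0 < e) (hen : e ≤ n)
    (hm : m ∣ Fintype.card F ^ e + 1) :
    ∃ x : ↥(Matrix.symplecticGroup (Fin n) F), orderOf x = m := by
  classical
  have hq2 : 2 ≤ Fintype.card F := Fintype.one_lt_card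
  obtain ⟨p, hp⟩ := CharP.exists F
  haveI := hp
  haveI : Fact p.Prime := ⟨CharP.char_is_prime F p⟩
  haveI : NeZero (e + e) := ⟨by omega⟩
  haveI : Fintype (FiniteField.Extension F p (e + e)) := Fintype.ofFinite _
  have hdim : Module.finrank F (FiniteField.Extension F p (e + e)) = e + e :=
    FiniteField.finrank_extension F p (e + e)
  have hLcard : Fintype.card (FiniteField.Extension F p (e + e)) = (Fintype.card F ^ e) ^ 2 := by
    rw [Module.card_eq_pow_finrank (K := F) (V := FiniteField.Extension F p (e + e)), hdim,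
      ← pow_mul, mul_two]
  have hQ1 : 1 < Fintype.card F ^ e := Nat.one_lt_pow he.ne' hq2
  obtain ⟨u, hu1, hu2⟩ := Cfsg.Agent.S2394.exists_order
    (L := FiniteField.Extension F p (e + e)) (Fintype.card F ^ e) m hLcard hQ1 hm
  obtain ⟨φ, hφ⟩ := Cfsg.Agent.S2394.torus (F := F)
    (L := FiniteField.Extension F p (e + e)) e he hdim
  have huN : u ∈ (powMonoidHom (Fintype.card F ^ e + 1) :
      (FiniteField.Extension F p (e + e))ˣ →* (FiniteField.Extension F p (e + e))ˣ).ker := by
    rw [MonoidHom.mem_ker, powMonoidHom_apply]; exact hu1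
  obtain ⟨Φ, hΦ⟩ := Cfsg.Agent.Helper14.SylTorus.sp_blocks e 1 n (by omega) φ hφ
  let ι := MonoidHom.mulSingle (fun _ : Fin 1 => ↥((powMonoidHom (Fintype.card F ^ e + 1) :
      (FiniteField.Extension F p (e + e))ˣ →* (FiniteField.Extension F p (e + e))ˣ).ker)) 0
  have hι : Function.Injective ι := by
    intro x y h
    have h0 := congrFun h 0
    simpa [ι] using h0
  refine ⟨Φ (ι ⟨u, huN⟩), ?_⟩
  rw [orderOf_injective Φ hΦ, orderOf_injective ι hι, Subgroup.orderOf_mk]
  exact hu2

end Cfsg.Agent.Helper20.PSpRS2
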