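import Cfsg.Agent.Helper20.Basic
import Cfsg.Agent.Helper20.TI
import Mathlib

set_option autoImplicit false
open scoped Pointwise

namespace Cfsg.Agent.Helper20

/-- An element centralizing a Sylow 2-subgroup and conjugate to its inverse equals its inverse. -/
theorem eq_inv_of_centralizes_sylow {G : Type*} [Group G] [Finite G] (S : Sylow 2 G) (x g : G)
    (hxC : x ∈ Subgroup.centralizer ((S : Subgroup G) : Set G)) (hg : g * x * g⁻¹ = x⁻¹) :
    x = x⁻¹ := by
  haveI : Fact (Nat.Prime 2) := ⟨Nat.prime_two⟩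
  obtain ⟨A, r, hr, hAr, hpow⟩ := exists_card_eq_pow_mul G 2 Nat.prime_two
  have hrodd : Odd r := by
    rw [← Nat.not_even_iff_odd, even_iff_two_dvd]; exact hr
  have hSC : (S : Subgroup G) ≤ Subgroup.centralizer ({x} : Set G) := by
    intro s hs
    rw [Subgroup.mem_centralizer_iff]
    intro z hz; rw [Set.mem_singleton_iff] at hz; rw [hz]
    rw [Subgroup.mem_centralizer_iff] at hxC
    exact (hxC s hs).symm
  have hS'C : ((g • S : Sylow 2 G) : Subgroup G) ≤ Subgroup.centralizer ({x} : Set G) := by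
    intro y hy
    rw [Sylow.coe_subgroup_smul, mem_conj_smul] at hy
    rw [Subgroup.mem_centralizer_iff] at hxC ⊢
    intro z hz; rw [Set.mem_singleton_iff] at hz; rw [hz]
    have h1 := hxC _ hy
    have h2 : y * x⁻¹ = x⁻¹ * y := by
      rw [← hg]
      have e1 : y * (g * x * g⁻¹) = g * ((g⁻¹ * y * g) * x) * g⁻¹ := by group
      have e2 : (g * x * g⁻¹) * y = g * (x * (g⁻¹ * y * g)) * g⁻¹ := by group
      rw [e1, e2, h1]
    have e3 : x * y = x * (y * x⁻¹) * x := by group
    rw [e3, h2]; group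
  obtain ⟨c, hc⟩ := MulAction.exists_smul_eq ↥(Subgroup.centralizer ({x} : Set G))
    (S.subtype hSC) ((g • S : Sylow 2 G).subtype hS'C)
  have hcx : (c : G) * x = x * (c : G) := by
    have := c.2
    rw [Subgroup.mem_centralizer_iff] at this
    exact (this x (Set.mem_singleton x)).symm
  have hu_inv : ((c : G)⁻¹ * g) * x * ((c : G)⁻¹ * g)⁻¹ = x⁻¹ := by
    have e : ((c : G)⁻¹ * g) * x * ((c : G)⁻¹ * g)⁻¹ = (c : G)⁻¹ * (g * x * g⁻¹) * (c : G) := by group
    rw [e, hg]
    have e4 : x⁻¹ * (c : G) = (c : G) * x⁻¹ := by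
      have e5 : x⁻¹ * (c : G) = x⁻¹ * ((c : G) * x) * x⁻¹ := by group
      rw [e5, hcx]; group
    rw [mul_assoc, e4, inv_mul_cancel_left]
  have huN : (c : G)⁻¹ * g ∈ Subgroup.normalizer ((S : Subgroup G) : Set G) := by
    apply mem_normalizer_of_conj_smul_eq
    have hle : MulAut.conj ((c : G)⁻¹ * g) • (S : Subgroup G) ≤ (S : Subgroup G) := by
      intro y hy
      rw [mem_conj_smul] at hy
      have h1 : g * (((c : G)⁻¹ * g)⁻¹ * y * ((c : G)⁻¹ * g)) * g⁻¹ ∈
          ((g • S : Sylow 2 G) : Subgroup G) := by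
        rw [Sylow.coe_subgroup_smul, mem_conj_smul]
        have e : g⁻¹ * (g * (((c : G)⁻¹ * g)⁻¹ * y * ((c : G)⁻¹ * g)) * g⁻¹) * g
            = ((c : G)⁻¹ * g)⁻¹ * y * ((c : G)⁻¹ * g) := by group
        rw [e]; exact hy
      have e2 : g * (((c : G)⁻¹ * g)⁻¹ * y * ((c : G)⁻¹ * g)) * g⁻¹ = (c : G) * y * (c : G)⁻¹ := by
        group
      rw [e2] at h1
      have hw : (⟨(c : G) * y * (c : G)⁻¹, hS'C h1⟩ : ↥(Subgroup.centralizer ({x} : Set G))) ∈
          (((g • S : Sylow 2 G).subtype hS'C : Sylow 2 _) : Subgroup _) := by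
        rw [Sylow.coe_subtype, Subgroup.mem_subgroupOf]; exact h1
      rw [← hc] at hw
      have hw2 := (mem_conj_smul _ _ _).mp hw
      rw [Sylow.coe_subtype, Subgroup.mem_subgroupOf] at hw2
      have e3 : ((c⁻¹ * (⟨(c : G) * y * (c : G)⁻¹, hS'C h1⟩ : ↥(Subgroup.centralizer ({x} : Set G))) * c :
          ↥(Subgroup.centralizer ({x} : Set G))) : G) = y := by
        push_cast; group
      rw [e3] at hw2
      exact hw2
    exact ((((c : G)⁻¹ * g) • S : Sylow 2 G).is_maximal' S.isPGroup' hle).symm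
  have htN := Subgroup.pow_mem _ huN r
  have htS := mem_sylow_of_mem_normalizer 2 S _ A (hpow _) htN
  have htinv := conj_odd_pow_of_inverts _ x hu_inv r hrodd
  rw [Subgroup.mem_centralizer_iff] at hxC
  have hcomm := hxC _ htS
  rw [← htinv, hcomm]; group

end Cfsg.Agent.Helper20
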