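import Mathlib
import Cfsg.Agent.Helper20.SL3Gen

/-!
# Explicit word certificates in `SL_3` over the fields with 2, 3, 4, 7, 16 elements
(generated by a script; each step is a `3 × 3` matrix product checked entrywise)
-/

set_option autoImplicit false

namespace Cfsg.Agent.Helper20.SL3Gen

open Matrix

variable {F : Type*} [Field F]

theorem detG2 (hp : (2 : F) = 0) : Matrix.det (!![0, 0, 1; 0, 1, 0; 1, 0, 0] : Matrix (Fin 3) (Fin 3) F) = 1 := by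
  rw [det3]
  linear_combination (-1 : F) * hp

theorem detV2 (hp : (2 : F) = 0) : Matrix.det (!![1, 0, 0; 1, 1, 0; 0, 1, 1] : Matrix (Fin 3) (Fin 3) F) = 1 := by
  rw [det3]
  ring

theorem detVi2 (hp : (2 : F) = 0) : Matrix.det (!![1, 0, 0; 1, 1, 0; 1, 1, 1] : Matrix (Fin 3) (Fin 3) F) = 1 := by
  rw [det3]
  ring

theorem gu2 (hp : (2 : F) = 0) :
    (!![0, 0, 1; 0, 1, 0; 1, 0, 0] : Matrix (Fin 3) (Fin 3) F) * !![1, 1, 0; 0, 1, 1; 0, 0, 1]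
      = !![0, 0, 1; 0, 1, 1; 1, 1, 0] :=
  mul3 (by ring) (by ring) (by ring) (by ring) (by ring) (by ring) (by ring) (by ring) (by ring)

theorem vg2 (hp : (2 : F) = 0) :
    (!![1, 0, 0; 1, 1, 0; 0, 1, 1] : Matrix (Fin 3) (Fin 3) F) * !![0, 0, 1; 0, 1, 0; 1, 0, 0]
      = !![0, 0, 1; 0, 1, 1; 1, 1, 0] :=
  mul3 (by ring) (by ring) (by ring) (by ring) (by ring) (by ring) (by ring) (by ring) (by ring)

theorem vvi2 (hp : (2 : F) = 0) :
    (!![1, 0, 0; 1, 1, 0; 0, 1, 1] : Matrix (Fin 3) (Fin 3) F) * !![1, 0, 0; 1, 1, 0; 1, 1, 1]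
      = !![1, 0, 0; 0, 1, 0; 0, 0, 1] :=
  mul3 (by ring) (by ring) (by ring) (by linear_combination (1 : F) * hp) (by ring) (by ring) (by linear_combination (1 : F) * hp) (by linear_combination (1 : F) * hp) (by ring)

theorem uui2 (hp : (2 : F) = 0) :
    (!![1, 1, 0; 0, 1, 1; 0, 0, 1] : Matrix (Fin 3) (Fin 3) F) * !![1, 1, 1; 0, 1, 1; 0, 0, 1]
      = !![1, 0, 0; 0, 1, 0; 0, 0, 1] :=
  mul3 (by ring) (by linear_combination (1 : F) * hp) (by linear_combination (1 : F) * hp) (by ring) (by ring) (by linear_combination (1 : F) * hp) (by ring) (by ring) (by ring)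

theorem cert_anti2 (hp : (2 : F) = 0) :
    (!![1, 1, 0; 0, 1, 1; 0, 0, 1] : Matrix (Fin 3) (Fin 3) F)
      * !![1, 1, 0; 0, 1, 1; 0, 0, 1]
      * !![1, 0, 0; 1, 1, 0; 0, 1, 1]
      * !![1, 0, 0; 1, 1, 0; 0, 1, 1]
      * !![1, 1, 0; 0, 1, 1; 0, 0, 1]
      * !![1, 1, 0; 0, 1, 1; 0, 0, 1]
      = !![0, 0, 1; 0, 1, 0; 1, 0, 0] := by
  rw [show (!![1, 1, 0; 0, 1, 1; 0, 0, 1] : Matrix (Fin 3) (Fin 3) F) * !![1, 1, 0; 0, 1, 1; 0, 0, 1]
      = !![1, 0, 1; 0, 1, 0; 0, 0, 1] from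
    mul3 (by ring) (by linear_combination (1 : F) * hp) (by ring) (by ring) (by ring) (by linear_combination (1 : F) * hp) (by ring) (by ring) (by ring)]
  rw [show (!![1, 0, 1; 0, 1, 0; 0, 0, 1] : Matrix (Fin 3) (Fin 3) F) * !![1, 0, 0; 1, 1, 0; 0, 1, 1]
      = !![1, 1, 1; 1, 1, 0; 0, 1, 1] from
    mul3 (by ring) (by ring) (by ring) (by ring) (by ring) (by ring) (by ring) (by ring) (by ring)]
  rw [show (!![1, 1, 1; 1, 1, 0; 0, 1, 1] : Matrix (Fin 3) (Fin 3) F) * !![1, 0, 0; 1, 1, 0; 0, 1, 1]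
      = !![0, 0, 1; 0, 1, 0; 1, 0, 1] from
    mul3 (by linear_combination (1 : F) * hp) (by linear_combination (1 : F) * hp) (by ring) (by linear_combination (1 : F) * hp) (by ring) (by ring) (by ring) (by linear_combination (1 : F) * hp) (by ring)]
  rw [show (!![0, 0, 1; 0, 1, 0; 1, 0, 1] : Matrix (Fin 3) (Fin 3) F) * !![1, 1, 0; 0, 1, 1; 0, 0, 1]
      = !![0, 0, 1; 0, 1, 1; 1, 1, 1] from
    mul3 (by ring) (by ring) (by ring) (by ring) (by ring) (by ring) (by ring) (by ring) (by ring)]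
  rw [show (!![0, 0, 1; 0, 1, 1; 1, 1, 1] : Matrix (Fin 3) (Fin 3) F) * !![1, 1, 0; 0, 1, 1; 0, 0, 1]
      = !![0, 0, 1; 0, 1, 0; 1, 0, 0] from
    mul3 (by ring) (by ring) (by ring) (by ring) (by ring) (by linear_combination (1 : F) * hp) (by ring) (by linear_combination (1 : F) * hp) (by linear_combination (1 : F) * hp)]

theorem cert_um12 (hp : (2 : F) = 0) :
    (!![1, 0, 0; 1, 1, 0; 0, 1, 1] : Matrix (Fin 3) (Fin 3) F)
      * !![1, 1, 0; 0, 1, 1; 0, 0, 1]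
      * !![1, 0, 0; 1, 1, 0; 0, 1, 1]
      * !![1, 1, 0; 0, 1, 1; 0, 0, 1]
      * !![1, 1, 0; 0, 1, 1; 0, 0, 1]
      * !![1, 0, 0; 1, 1, 0; 0, 1, 1]
      = !![1, 1, 0; 0, 1, 0; 0, 0, 1] := by
  rw [show (!![1, 0, 0; 1, 1, 0; 0, 1, 1] : Matrix (Fin 3) (Fin 3) F) * !![1, 1, 0; 0, 1, 1; 0, 0, 1]
      = !![1, 1, 0; 1, 0, 1; 0, 1, 0] from
    mul3 (by ring) (by ring) (by ring) (by ring) (by linear_combination (1 : F) * hp) (by ring) (by ring) (by ring) (by linear_combination (1 : F) * hp)]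
  rw [show (!![1, 1, 0; 1, 0, 1; 0, 1, 0] : Matrix (Fin 3) (Fin 3) F) * !![1, 0, 0; 1, 1, 0; 0, 1, 1]
      = !![0, 1, 0; 1, 1, 1; 1, 1, 0] from
    mul3 (by linear_combination (1 : F) * hp) (by ring) (by ring) (by ring) (by ring) (by ring) (by ring) (by ring) (by ring)]
  rw [show (!![0, 1, 0; 1, 1, 1; 1, 1, 0] : Matrix (Fin 3) (Fin 3) F) * !![1, 1, 0; 0, 1, 1; 0, 0, 1]
      = !![0, 1, 1; 1, 0, 0; 1, 0, 1] from
    mul3 (by ring) (by ring) (by ring) (by ring) (by linear_combination (1 : F) * hp) (by linear_combination (1 : F) * hp) (by ring) (by linear_combination (1 : F) * hp) (by ring)]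
  rw [show (!![0, 1, 1; 1, 0, 0; 1, 0, 1] : Matrix (Fin 3) (Fin 3) F) * !![1, 1, 0; 0, 1, 1; 0, 0, 1]
      = !![0, 1, 0; 1, 1, 0; 1, 1, 1] from
    mul3 (by ring) (by ring) (by linear_combination (1 : F) * hp) (by ring) (by ring) (by ring) (by ring) (by ring) (by ring)]
  rw [show (!![0, 1, 0; 1, 1, 0; 1, 1, 1] : Matrix (Fin 3) (Fin 3) F) * !![1, 0, 0; 1, 1, 0; 0, 1, 1]
      = !![1, 1, 0; 0, 1, 0; 0, 0, 1] from
    mul3 (by ring) (by ring) (by ring) (by linear_combination (1 : F) * hp) (by ring) (by ring) (by linear_combination (1 : F) * hp) (by linear_combination (1 : F) * hp) (by ring)]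

theorem detG3 (hp : (3 : F) = 0) : Matrix.det (!![0, 0, 1; 0, 2, 0; 1, 0, 0] : Matrix (Fin 3) (Fin 3) F) = 1 := by
  rw [det3]
  linear_combination (-1 : F) * hp

theorem detV3 (hp : (3 : F) = 0) : Matrix.det (!![1, 0, 0; 2, 1, 0; 0, 2, 1] : Matrix (Fin 3) (Fin 3) F) = 1 := by
  rw [det3]
  ring

theorem detVi3 (hp : (3 : F) = 0) : Matrix.det (!![1, 0, 0; 1, 1, 0; 1, 1, 1] : Matrix (Fin 3) (Fin 3) F) = 1 := by
  rw [det3]
  ring

theorem gu3 (hp : (3 : F) = 0) :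
    (!![0, 0, 1; 0, 2, 0; 1, 0, 0] : Matrix (Fin 3) (Fin 3) F) * !![1, 1, 0; 0, 1, 1; 0, 0, 1]
      = !![0, 0, 1; 0, 2, 2; 1, 1, 0] :=
  mul3 (by ring) (by ring) (by ring) (by ring) (by ring) (by ring) (by ring) (by ring) (by ring)

theorem vg3 (hp : (3 : F) = 0) :
    (!![1, 0, 0; 2, 1, 0; 0, 2, 1] : Matrix (Fin 3) (Fin 3) F) * !![0, 0, 1; 0, 2, 0; 1, 0, 0]
      = !![0, 0, 1; 0, 2, 2; 1, 1, 0] :=
  mul3 (by ring) (by ring) (by ring) (by ring) (by ring) (by ring) (by ring) (by linear_combination (1 : F) * hp) (by ring)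

theorem vvi3 (hp : (3 : F) = 0) :
    (!![1, 0, 0; 2, 1, 0; 0, 2, 1] : Matrix (Fin 3) (Fin 3) F) * !![1, 0, 0; 1, 1, 0; 1, 1, 1]
      = !![1, 0, 0; 0, 1, 0; 0, 0, 1] :=
  mul3 (by ring) (by ring) (by ring) (by linear_combination (1 : F) * hp) (by ring) (by ring) (by linear_combination (1 : F) * hp) (by linear_combination (1 : F) * hp) (by ring)

theorem uui3 (hp : (3 : F) = 0) :
    (!![1, 1, 0; 0, 1, 1; 0, 0, 1] : Matrix (Fin 3) (Fin 3) F) * !![1, 2, 1; 0, 1, 2; 0, 0, 1]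
      = !![1, 0, 0; 0, 1, 0; 0, 0, 1] :=
  mul3 (by ring) (by linear_combination (1 : F) * hp) (by linear_combination (1 : F) * hp) (by ring) (by ring) (by linear_combination (1 : F) * hp) (by ring) (by ring) (by ring)

theorem cert_anti3 (hp : (3 : F) = 0) :
    (!![1, 1, 0; 0, 1, 1; 0, 0, 1] : Matrix (Fin 3) (Fin 3) F)
      * !![1, 0, 0; 1, 1, 0; 1, 1, 1]
      * !![1, 2, 1; 0, 1, 2; 0, 0, 1]
      * !![1, 0, 0; 2, 1, 0; 0, 2, 1]
      * !![1, 1, 0; 0, 1, 1; 0, 0, 1]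
      * !![1, 0, 0; 1, 1, 0; 1, 1, 1]
      = !![0, 0, 2; 0, 1, 0; 1, 0, 0] := by
  rw [show (!![1, 1, 0; 0, 1, 1; 0, 0, 1] : Matrix (Fin 3) (Fin 3) F) * !![1, 0, 0; 1, 1, 0; 1, 1, 1]
      = !![2, 1, 0; 2, 2, 1; 1, 1, 1] from
    mul3 (by ring) (by ring) (by ring) (by ring) (by ring) (by ring) (by ring) (by ring) (by ring)]
  rw [show (!![2, 1, 0; 2, 2, 1; 1, 1, 1] : Matrix (Fin 3) (Fin 3) F) * !![1, 2, 1; 0, 1, 2; 0, 0, 1]
      = !![2, 2, 1; 2, 0, 1; 1, 0, 1] from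
    mul3 (by ring) (by linear_combination (1 : F) * hp) (by linear_combination (1 : F) * hp) (by ring) (by linear_combination (2 : F) * hp) (by linear_combination (2 : F) * hp) (by ring) (by linear_combination (1 : F) * hp) (by linear_combination (1 : F) * hp)]
  rw [show (!![2, 2, 1; 2, 0, 1; 1, 0, 1] : Matrix (Fin 3) (Fin 3) F) * !![1, 0, 0; 2, 1, 0; 0, 2, 1]
      = !![0, 1, 1; 2, 2, 1; 1, 2, 1] from
    mul3 (by linear_combination (2 : F) * hp) (by linear_combination (1 : F) * hp) (by ring) (by ring) (by ring) (by ring) (by ring) (by ring) (by ring)]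
  rw [show (!![0, 1, 1; 2, 2, 1; 1, 2, 1] : Matrix (Fin 3) (Fin 3) F) * !![1, 1, 0; 0, 1, 1; 0, 0, 1]
      = !![0, 1, 2; 2, 1, 0; 1, 0, 0] from
    mul3 (by ring) (by ring) (by ring) (by ring) (by linear_combination (1 : F) * hp) (by linear_combination (1 : F) * hp) (by ring) (by linear_combination (1 : F) * hp) (by linear_combination (1 : F) * hp)]
  rw [show (!![0, 1, 2; 2, 1, 0; 1, 0, 0] : Matrix (Fin 3) (Fin 3) F) * !![1, 0, 0; 1, 1, 0; 1, 1, 1]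
      = !![0, 0, 2; 0, 1, 0; 1, 0, 0] from
    mul3 (by linear_combination (1 : F) * hp) (by linear_combination (1 : F) * hp) (by ring) (by linear_combination (1 : F) * hp) (by ring) (by ring) (by ring) (by ring) (by ring)]

theorem cert_um13 (hp : (3 : F) = 0) :
    (!![1, 0, 0; 2, 1, 0; 0, 2, 1] : Matrix (Fin 3) (Fin 3) F)
      * !![1, 2, 1; 0, 1, 2; 0, 0, 1]
      * !![1, 0, 0; 1, 1, 0; 1, 1, 1]
      * !![1, 1, 0; 0, 1, 1; 0, 0, 1]
      * !![1, 0, 0; 1, 1, 0; 1, 1, 1]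
      * !![1, 2, 1; 0, 1, 2; 0, 0, 1]
      * !![1, 0, 0; 1, 1, 0; 1, 1, 1]
      = !![1, 1, 2; 0, 1, 0; 0, 0, 1] := by
  rw [show (!![1, 0, 0; 2, 1, 0; 0, 2, 1] : Matrix (Fin 3) (Fin 3) F) * !![1, 2, 1; 0, 1, 2; 0, 0, 1]
      = !![1, 2, 1; 2, 2, 1; 0, 2, 2] from
    mul3 (by ring) (by ring) (by ring) (by ring) (by linear_combination (1 : F) * hp) (by linear_combination (1 : F) * hp) (by ring) (by ring) (by linear_combination (1 : F) * hp)]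
  rw [show (!![1, 2, 1; 2, 2, 1; 0, 2, 2] : Matrix (Fin 3) (Fin 3) F) * !![1, 0, 0; 1, 1, 0; 1, 1, 1]
      = !![1, 0, 1; 2, 0, 1; 1, 1, 2] from
    mul3 (by linear_combination (1 : F) * hp) (by linear_combination (1 : F) * hp) (by ring) (by linear_combination (1 : F) * hp) (by linear_combination (1 : F) * hp) (by ring) (by linear_combination (1 : F) * hp) (by linear_combination (1 : F) * hp) (by ring)]
  rw [show (!![1, 0, 1; 2, 0, 1; 1, 1, 2] : Matrix (Fin 3) (Fin 3) F) * !![1, 1, 0; 0, 1, 1; 0, 0, 1]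
      = !![1, 1, 1; 2, 2, 1; 1, 2, 0] from
    mul3 (by ring) (by ring) (by ring) (by ring) (by ring) (by ring) (by ring) (by ring) (by linear_combination (1 : F) * hp)]
  rw [show (!![1, 1, 1; 2, 2, 1; 1, 2, 0] : Matrix (Fin 3) (Fin 3) F) * !![1, 0, 0; 1, 1, 0; 1, 1, 1]
      = !![0, 2, 1; 2, 0, 1; 0, 2, 0] from
    mul3 (by linear_combination (1 : F) * hp) (by ring) (by ring) (by linear_combination (1 : F) * hp) (by linear_combination (1 : F) * hp) (by ring) (by linear_combination (1 : F) * hp) (by ring) (by ring)]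
  rw [show (!![0, 2, 1; 2, 0, 1; 0, 2, 0] : Matrix (Fin 3) (Fin 3) F) * !![1, 2, 1; 0, 1, 2; 0, 0, 1]
      = !![0, 2, 2; 2, 1, 0; 0, 2, 1] from
    mul3 (by ring) (by ring) (by linear_combination (1 : F) * hp) (by ring) (by linear_combination (1 : F) * hp) (by linear_combination (1 : F) * hp) (by ring) (by ring) (by linear_combination (1 : F) * hp)]
  rw [show (!![0, 2, 2; 2, 1, 0; 0, 2, 1] : Matrix (Fin 3) (Fin 3) F) * !![1, 0, 0; 1, 1, 0; 1, 1, 1]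
      = !![1, 1, 2; 0, 1, 0; 0, 0, 1] from
    mul3 (by linear_combination (1 : F) * hp) (by linear_combination (1 : F) * hp) (by ring) (by linear_combination (1 : F) * hp) (by ring) (by ring) (by linear_combination (1 : F) * hp) (by linear_combination (1 : F) * hp) (by ring)]

theorem detG4 (ω : F) (hp : (2 : F) = 0) (hω : ω^2 + ω + 1 = 0) : Matrix.det (!![0, 0, 1; ω, 0, 0; 0, 1 + ω, 0] : Matrix (Fin 3) (Fin 3) F) = 1 := by
  rw [det3]
  linear_combination (-1 : F) * hp + (1 : F) * hω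

theorem detV4 (ω : F) (hp : (2 : F) = 0) (hω : ω^2 + ω + 1 = 0) : Matrix.det (!![1, 0, 0; 0, 1, 1 + ω; 1 + ω, 0, 1] : Matrix (Fin 3) (Fin 3) F) = 1 := by
  rw [det3]
  ring

theorem detVi4 (ω : F) (hp : (2 : F) = 0) (hω : ω^2 + ω + 1 = 0) : Matrix.det (!![1, 0, 0; ω, 1, 1 + ω; 1 + ω, 0, 1] : Matrix (Fin 3) (Fin 3) F) = 1 := by
  rw [det3]
  ring

theorem gu4 (ω : F) (hp : (2 : F) = 0) (hω : ω^2 + ω + 1 = 0) :
    (!![0, 0, 1; ω, 0, 0; 0, 1 + ω, 0] : Matrix (Fin 3) (Fin 3) F) * !![1, 1, 0; 0, 1, 1; 0, 0, 1]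
      = !![0, 0, 1; ω, ω, 0; 0, 1 + ω, 1 + ω] :=
  mul3 (by ring) (by ring) (by ring) (by ring) (by ring) (by ring) (by ring) (by ring) (by ring)

theorem vg4 (ω : F) (hp : (2 : F) = 0) (hω : ω^2 + ω + 1 = 0) :
    (!![1, 0, 0; 0, 1, 1 + ω; 1 + ω, 0, 1] : Matrix (Fin 3) (Fin 3) F) * !![0, 0, 1; ω, 0, 0; 0, 1 + ω, 0]
      = !![0, 0, 1; ω, ω, 0; 0, 1 + ω, 1 + ω] :=
  mul3 (by ring) (by ring) (by ring) (by ring) (by linear_combination (1 : F) * hω) (by ring) (by ring) (by ring) (by ring)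

theorem vvi4 (ω : F) (hp : (2 : F) = 0) (hω : ω^2 + ω + 1 = 0) :
    (!![1, 0, 0; 0, 1, 1 + ω; 1 + ω, 0, 1] : Matrix (Fin 3) (Fin 3) F) * !![1, 0, 0; ω, 1, 1 + ω; 1 + ω, 0, 1]
      = !![1, 0, 0; 0, 1, 0; 0, 0, 1] :=
  mul3 (by ring) (by ring) (by ring) (by linear_combination (ω : F) * hp + (1 : F) * hω) (by ring) (by linear_combination (1 + ω : F) * hp) (by linear_combination (1 + ω : F) * hp) (by ring) (by ring)

theorem uui4 (ω : F) (hp : (2 : F) = 0) (hω : ω^2 + ω + 1 = 0) :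
    (!![1, 1, 0; 0, 1, 1; 0, 0, 1] : Matrix (Fin 3) (Fin 3) F) * !![1, 1, 1; 0, 1, 1; 0, 0, 1]
      = !![1, 0, 0; 0, 1, 0; 0, 0, 1] :=
  mul3 (by ring) (by linear_combination (1 : F) * hp) (by linear_combination (1 : F) * hp) (by ring) (by ring) (by linear_combination (1 : F) * hp) (by ring) (by ring) (by ring)

theorem cert_anti4 (ω : F) (hp : (2 : F) = 0) (hω : ω^2 + ω + 1 = 0) :
    (!![1, 1, 0; 0, 1, 1; 0, 0, 1] : Matrix (Fin 3) (Fin 3) F)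
      * !![1, 1, 0; 0, 1, 1; 0, 0, 1]
      * !![1, 0, 0; 0, 1, 1 + ω; 1 + ω, 0, 1]
      * !![1, 1, 0; 0, 1, 1; 0, 0, 1]
      * !![1, 1, 0; 0, 1, 1; 0, 0, 1]
      * !![1, 0, 0; ω, 1, 1 + ω; 1 + ω, 0, 1]
      * !![1, 1, 0; 0, 1, 1; 0, 0, 1]
      * !![1, 1, 0; 0, 1, 1; 0, 0, 1]
      = !![0, 0, 1 + ω; 0, 1, 0; ω, 0, 0] := by
  rw [show (!![1, 1, 0; 0, 1, 1; 0, 0, 1] : Matrix (Fin 3) (Fin 3) F) * !![1, 1, 0; 0, 1, 1; 0, 0, 1]
      = !![1, 0, 1; 0, 1, 0; 0, 0, 1] from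
    mul3 (by ring) (by linear_combination (1 : F) * hp) (by ring) (by ring) (by ring) (by linear_combination (1 : F) * hp) (by ring) (by ring) (by ring)]
  rw [show (!![1, 0, 1; 0, 1, 0; 0, 0, 1] : Matrix (Fin 3) (Fin 3) F) * !![1, 0, 0; 0, 1, 1 + ω; 1 + ω, 0, 1]
      = !![ω, 0, 1; 0, 1, 1 + ω; 1 + ω, 0, 1] from
    mul3 (by linear_combination (1 : F) * hp) (by ring) (by ring) (by ring) (by ring) (by ring) (by ring) (by ring) (by ring)]
  rw [show (!![ω, 0, 1; 0, 1, 1 + ω; 1 + ω, 0, 1] : Matrix (Fin 3) (Fin 3) F) * !![1, 1, 0; 0, 1, 1; 0, 0, 1]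
      = !![ω, ω, 1; 0, 1, ω; 1 + ω, 1 + ω, 1] from
    mul3 (by ring) (by ring) (by ring) (by ring) (by ring) (by linear_combination (1 : F) * hp) (by ring) (by ring) (by ring)]
  rw [show (!![ω, ω, 1; 0, 1, ω; 1 + ω, 1 + ω, 1] : Matrix (Fin 3) (Fin 3) F) * !![1, 1, 0; 0, 1, 1; 0, 0, 1]
      = !![ω, 0, 1 + ω; 0, 1, 1 + ω; 1 + ω, 0, ω] from
    mul3 (by ring) (by linear_combination (ω : F) * hp) (by ring) (by ring) (by ring) (by ring) (by ring) (by linear_combination (1 + ω : F) * hp) (by linear_combination (1 : F) * hp)]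
  rw [show (!![ω, 0, 1 + ω; 0, 1, 1 + ω; 1 + ω, 0, ω] : Matrix (Fin 3) (Fin 3) F) * !![1, 0, 0; ω, 1, 1 + ω; 1 + ω, 0, 1]
      = !![0, 0, 1 + ω; 0, 1, 0; ω, 0, ω] from
    mul3 (by linear_combination (ω : F) * hp + (1 : F) * hω) (by ring) (by ring) (by linear_combination (ω : F) * hp + (1 : F) * hω) (by ring) (by linear_combination (1 + ω : F) * hp) (by linear_combination (1 : F) * hω) (by ring) (by ring)]
  rw [show (!![0, 0, 1 + ω; 0, 1, 0; ω, 0, ω] : Matrix (Fin 3) (Fin 3) F) * !![1, 1, 0; 0, 1, 1; 0, 0, 1]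
      = !![0, 0, 1 + ω; 0, 1, 1; ω, ω, ω] from
    mul3 (by ring) (by ring) (by ring) (by ring) (by ring) (by ring) (by ring) (by ring) (by ring)]
  rw [show (!![0, 0, 1 + ω; 0, 1, 1; ω, ω, ω] : Matrix (Fin 3) (Fin 3) F) * !![1, 1, 0; 0, 1, 1; 0, 0, 1]
      = !![0, 0, 1 + ω; 0, 1, 0; ω, 0, 0] from
    mul3 (by ring) (by ring) (by ring) (by ring) (by ring) (by linear_combination (1 : F) * hp) (by ring) (by linear_combination (ω : F) * hp) (by linear_combination (ω : F) * hp)]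

theorem cert_um14 (ω : F) (hp : (2 : F) = 0) (hω : ω^2 + ω + 1 = 0) :
    (!![1, 0, 0; ω, 1, 1 + ω; 1 + ω, 0, 1] : Matrix (Fin 3) (Fin 3) F)
      * !![1, 1, 1; 0, 1, 1; 0, 0, 1]
      * !![1, 0, 0; ω, 1, 1 + ω; 1 + ω, 0, 1]
      * !![1, 1, 0; 0, 1, 1; 0, 0, 1]
      * !![1, 0, 0; 0, 1, 1 + ω; 1 + ω, 0, 1]
      * !![1, 0, 0; 0, 1, 1 + ω; 1 + ω, 0, 1]
      * !![1, 1, 1; 0, 1, 1; 0, 0, 1]
      * !![1, 0, 0; 0, 1, 1 + ω; 1 + ω, 0, 1]
      * !![1, 1, 0; 0, 1, 1; 0, 0, 1]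
      * !![1, 0, 0; 0, 1, 1 + ω; 1 + ω, 0, 1]
      = !![1, 1, ω; 0, 1, 0; 0, 0, 1] := by
  rw [show (!![1, 0, 0; ω, 1, 1 + ω; 1 + ω, 0, 1] : Matrix (Fin 3) (Fin 3) F) * !![1, 1, 1; 0, 1, 1; 0, 0, 1]
      = !![1, 1, 1; ω, 1 + ω, 0; 1 + ω, 1 + ω, ω] from
    mul3 (by ring) (by ring) (by ring) (by ring) (by ring) (by linear_combination (1 + ω : F) * hp) (by ring) (by ring) (by linear_combination (1 : F) * hp)]
  rw [show (!![1, 1, 1; ω, 1 + ω, 0; 1 + ω, 1 + ω, ω] : Matrix (Fin 3) (Fin 3) F) * !![1, 0, 0; ω, 1, 1 + ω; 1 + ω, 0, 1]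
      = !![0, 1, ω; 1 + ω, 1 + ω, ω; 1 + ω, 1 + ω, 0] from
    mul3 (by linear_combination (1 + ω : F) * hp) (by ring) (by linear_combination (1 : F) * hp) (by linear_combination (-1 : F) * hp + (1 : F) * hω) (by ring) (by linear_combination (1 : F) * hω) (by linear_combination (-1 : F) * hp + (2 : F) * hω) (by ring) (by linear_combination (ω : F) * hp + (1 : F) * hω)]
  rw [show (!![0, 1, ω; 1 + ω, 1 + ω, ω; 1 + ω, 1 + ω, 0] : Matrix (Fin 3) (Fin 3) F) * !![1, 1, 0; 0, 1, 1; 0, 0, 1]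
      = !![0, 1, 1 + ω; 1 + ω, 0, 1; 1 + ω, 0, 1 + ω] from
    mul3 (by ring) (by ring) (by ring) (by ring) (by linear_combination (1 + ω : F) * hp) (by linear_combination (ω : F) * hp) (by ring) (by linear_combination (1 + ω : F) * hp) (by ring)]
  rw [show (!![0, 1, 1 + ω; 1 + ω, 0, 1; 1 + ω, 0, 1 + ω] : Matrix (Fin 3) (Fin 3) F) * !![1, 0, 0; 0, 1, 1 + ω; 1 + ω, 0, 1]
      = !![ω, 1, 0; 0, 0, 1; 1, 0, 1 + ω] from
    mul3 (by linear_combination (1 : F) * hω) (by ring) (by linear_combination (1 + ω : F) * hp) (by linear_combination (1 + ω : F) * hp) (by ring) (by ring) (by linear_combination (ω : F) * hp + (1 : F) * hω) (by ring) (by ring)]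
  rw [show (!![ω, 1, 0; 0, 0, 1; 1, 0, 1 + ω] : Matrix (Fin 3) (Fin 3) F) * !![1, 0, 0; 0, 1, 1 + ω; 1 + ω, 0, 1]
      = !![ω, 1, 1 + ω; 1 + ω, 0, 1; 1 + ω, 0, 1 + ω] from
    mul3 (by ring) (by ring) (by ring) (by ring) (by ring) (by ring) (by linear_combination (1 : F) * hω) (by ring) (by ring)]
  rw [show (!![ω, 1, 1 + ω; 1 + ω, 0, 1; 1 + ω, 0, 1 + ω] : Matrix (Fin 3) (Fin 3) F) * !![1, 1, 1; 0, 1, 1; 0, 0, 1]
      = !![ω, 1 + ω, 0; 1 + ω, 1 + ω, ω; 1 + ω, 1 + ω, 0] from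
    mul3 (by ring) (by ring) (by linear_combination (1 + ω : F) * hp) (by ring) (by ring) (by linear_combination (1 : F) * hp) (by ring) (by ring) (by linear_combination (1 + ω : F) * hp)]
  rw [show (!![ω, 1 + ω, 0; 1 + ω, 1 + ω, ω; 1 + ω, 1 + ω, 0] : Matrix (Fin 3) (Fin 3) F) * !![1, 0, 0; 0, 1, 1 + ω; 1 + ω, 0, 1]
      = !![ω, 1 + ω, ω; ω, 1 + ω, 0; 1 + ω, 1 + ω, ω] from
    mul3 (by ring) (by ring) (by linear_combination (1 : F) * hω) (by linear_combination (1 : F) * hω) (by ring) (by linear_combination (ω : F) * hp + (1 : F) * hω) (by ring) (by ring) (by linear_combination (1 : F) * hω)]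
  rw [show (!![ω, 1 + ω, ω; ω, 1 + ω, 0; 1 + ω, 1 + ω, ω] : Matrix (Fin 3) (Fin 3) F) * !![1, 1, 0; 0, 1, 1; 0, 0, 1]
      = !![ω, 1, 1; ω, 1, 1 + ω; 1 + ω, 0, 1] from
    mul3 (by ring) (by linear_combination (ω : F) * hp) (by linear_combination (ω : F) * hp) (by ring) (by linear_combination (ω : F) * hp) (by ring) (by ring) (by linear_combination (1 + ω : F) * hp) (by linear_combination (ω : F) * hp)]
  rw [show (!![ω, 1, 1; ω, 1, 1 + ω; 1 + ω, 0, 1] : Matrix (Fin 3) (Fin 3) F) * !![1, 0, 0; 0, 1, 1 + ω; 1 + ω, 0, 1]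
      = !![1, 1, ω; 0, 1, 0; 0, 0, 1] from
    mul3 (by linear_combination (ω : F) * hp) (by ring) (by linear_combination (1 : F) * hp) (by linear_combination (ω : F) * hp + (1 : F) * hω) (by ring) (by linear_combination (1 + ω : F) * hp) (by linear_combination (1 + ω : F) * hp) (by ring) (by ring)]

theorem cert_umw4 (ω : F) (hp : (2 : F) = 0) (hω : ω^2 + ω + 1 = 0) :
    (!![1, 1, 0; 0, 1, 1; 0, 0, 1] : Matrix (Fin 3) (Fin 3) F)
      * !![1, 0, 0; ω, 1, 1 + ω; 1 + ω, 0, 1]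
      * !![1, 1, 0; 0, 1, 1; 0, 0, 1]
      * !![1, 0, 0; 0, 1, 1 + ω; 1 + ω, 0, 1]
      * !![1, 1, 1; 0, 1, 1; 0, 0, 1]
      * !![1, 0, 0; ω, 1, 1 + ω; 1 + ω, 0, 1]
      * !![1, 1, 0; 0, 1, 1; 0, 0, 1]
      * !![1, 1, 0; 0, 1, 1; 0, 0, 1]
      * !![1, 0, 0; 0, 1, 1 + ω; 1 + ω, 0, 1]
      * !![1, 1, 1; 0, 1, 1; 0, 0, 1]
      * !![1, 0, 0; 0, 1, 1 + ω; 1 + ω, 0, 1]
      = !![1, ω, 0; 0, 1, 0; 0, 0, 1] := by
  rw [show (!![1, 1, 0; 0, 1, 1; 0, 0, 1] : Matrix (Fin 3) (Fin 3) F) * !![1, 0, 0; ω, 1, 1 + ω; 1 + ω, 0, 1]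
      = !![1 + ω, 1, 1 + ω; 1, 1, ω; 1 + ω, 0, 1] from
    mul3 (by ring) (by ring) (by ring) (by linear_combination (ω : F) * hp) (by ring) (by linear_combination (1 : F) * hp) (by ring) (by ring) (by ring)]
  rw [show (!![1 + ω, 1, 1 + ω; 1, 1, ω; 1 + ω, 0, 1] : Matrix (Fin 3) (Fin 3) F) * !![1, 1, 0; 0, 1, 1; 0, 0, 1]
      = !![1 + ω, ω, ω; 1, 0, 1 + ω; 1 + ω, 1 + ω, 1] from
    mul3 (by ring) (by linear_combination (1 : F) * hp) (by linear_combination (1 : F) * hp) (by ring) (by linear_combination (1 : F) * hp) (by ring) (by ring) (by ring) (by ring)]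
  rw [show (!![1 + ω, ω, ω; 1, 0, 1 + ω; 1 + ω, 1 + ω, 1] : Matrix (Fin 3) (Fin 3) F) * !![1, 0, 0; 0, 1, 1 + ω; 1 + ω, 0, 1]
      = !![ω, ω, 1 + ω; 1 + ω, 0, 1 + ω; 0, 1 + ω, 1 + ω] from
    mul3 (by linear_combination (1 : F) * hω) (by ring) (by linear_combination (-1 : F) * hp + (1 : F) * hω) (by linear_combination (1 : F) * hω) (by ring) (by ring) (by linear_combination (1 + ω : F) * hp) (by ring) (by linear_combination (1 : F) * hω)]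
  rw [show (!![ω, ω, 1 + ω; 1 + ω, 0, 1 + ω; 0, 1 + ω, 1 + ω] : Matrix (Fin 3) (Fin 3) F) * !![1, 1, 1; 0, 1, 1; 0, 0, 1]
      = !![ω, 0, 1 + ω; 1 + ω, 1 + ω, 0; 0, 1 + ω, 0] from
    mul3 (by ring) (by linear_combination (ω : F) * hp) (by linear_combination (ω : F) * hp) (by ring) (by ring) (by linear_combination (1 + ω : F) * hp) (by ring) (by ring) (by linear_combination (1 + ω : F) * hp)]
  rw [show (!![ω, 0, 1 + ω; 1 + ω, 1 + ω, 0; 0, 1 + ω, 0] : Matrix (Fin 3) (Fin 3) F) * !![1, 0, 0; ω, 1, 1 + ω; 1 + ω, 0, 1]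
      = !![0, 0, 1 + ω; ω, 1 + ω, ω; 1, 1 + ω, ω] from
    mul3 (by linear_combination (ω : F) * hp + (1 : F) * hω) (by ring) (by ring) (by linear_combination (1 : F) * hω) (by ring) (by linear_combination (1 : F) * hω) (by linear_combination (-1 : F) * hp + (1 : F) * hω) (by ring) (by linear_combination (1 : F) * hω)]
  rw [show (!![0, 0, 1 + ω; ω, 1 + ω, ω; 1, 1 + ω, ω] : Matrix (Fin 3) (Fin 3) F) * !![1, 1, 0; 0, 1, 1; 0, 0, 1]
      = !![0, 0, 1 + ω; ω, 1, 1; 1, ω, 1] from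
    mul3 (by ring) (by ring) (by ring) (by ring) (by linear_combination (ω : F) * hp) (by linear_combination (ω : F) * hp) (by ring) (by linear_combination (1 : F) * hp) (by linear_combination (ω : F) * hp)]
  rw [show (!![0, 0, 1 + ω; ω, 1, 1; 1, ω, 1] : Matrix (Fin 3) (Fin 3) F) * !![1, 1, 0; 0, 1, 1; 0, 0, 1]
      = !![0, 0, 1 + ω; ω, 1 + ω, 0; 1, 1 + ω, 1 + ω] from
    mul3 (by ring) (by ring) (by ring) (by ring) (by ring) (by linear_combination (1 : F) * hp) (by ring) (by ring) (by ring)]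
  rw [show (!![0, 0, 1 + ω; ω, 1 + ω, 0; 1, 1 + ω, 1 + ω] : Matrix (Fin 3) (Fin 3) F) * !![1, 0, 0; 0, 1, 1 + ω; 1 + ω, 0, 1]
      = !![ω, 0, 1 + ω; ω, 1 + ω, ω; 1 + ω, 1 + ω, 1] from
    mul3 (by linear_combination (1 : F) * hω) (by ring) (by ring) (by ring) (by ring) (by linear_combination (1 : F) * hω) (by linear_combination (1 : F) * hω) (by ring) (by linear_combination (ω : F) * hp + (1 : F) * hω)]
  rw [show (!![ω, 0, 1 + ω; ω, 1 + ω, ω; 1 + ω, 1 + ω, 1] : Matrix (Fin 3) (Fin 3) F) * !![1, 1, 1; 0, 1, 1; 0, 0, 1]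
      = !![ω, ω, 1; ω, 1, 1 + ω; 1 + ω, 0, 1] from
    mul3 (by ring) (by ring) (by linear_combination (ω : F) * hp) (by ring) (by linear_combination (ω : F) * hp) (by linear_combination (ω : F) * hp) (by ring) (by linear_combination (1 + ω : F) * hp) (by linear_combination (1 + ω : F) * hp)]
  rw [show (!![ω, ω, 1; ω, 1, 1 + ω; 1 + ω, 0, 1] : Matrix (Fin 3) (Fin 3) F) * !![1, 0, 0; 0, 1, 1 + ω; 1 + ω, 0, 1]
      = !![1, ω, 0; 0, 1, 0; 0, 0, 1] from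
    mul3 (by linear_combination (ω : F) * hp) (by ring) (by linear_combination (1 : F) * hω) (by linear_combination (ω : F) * hp + (1 : F) * hω) (by ring) (by linear_combination (1 + ω : F) * hp) (by linear_combination (1 + ω : F) * hp) (by ring) (by ring)]

theorem mmi7 (hp : (7 : F) = 0) :
    (!![0, 0, 2; 0, 2, 0; 5, 0, 0] : Matrix (Fin 3) (Fin 3) F) * !![0, 0, 3; 0, 4, 0; 4, 0, 0]
      = !![1, 0, 0; 0, 1, 0; 0, 0, 1] :=
  mul3 (by linear_combination (1 : F) * hp) (by ring) (by ring) (by ring) (by linear_combination (1 : F) * hp) (by ring) (by ring) (by ring) (by linear_combination (2 : F) * hp)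

theorem uui7 (hp : (7 : F) = 0) :
    (!![1, 1, 5; 0, 1, 1; 0, 0, 1] : Matrix (Fin 3) (Fin 3) F) * !![1, 6, 3; 0, 1, 6; 0, 0, 1]
      = !![1, 0, 0; 0, 1, 0; 0, 0, 1] :=
  mul3 (by ring) (by linear_combination (1 : F) * hp) (by linear_combination (2 : F) * hp) (by ring) (by ring) (by linear_combination (1 : F) * hp) (by ring) (by ring) (by ring)

theorem cert_um7 (hp : (7 : F) = 0) :
    (!![1, 1, 5; 0, 1, 1; 0, 0, 1] : Matrix (Fin 3) (Fin 3) F)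
      * !![0, 0, 2; 0, 2, 0; 5, 0, 0]
      * !![1, 6, 3; 0, 1, 6; 0, 0, 1]
      * !![1, 6, 3; 0, 1, 6; 0, 0, 1]
      * !![0, 0, 2; 0, 2, 0; 5, 0, 0]
      * !![1, 1, 5; 0, 1, 1; 0, 0, 1]
      * !![1, 1, 5; 0, 1, 1; 0, 0, 1]
      * !![0, 0, 2; 0, 2, 0; 5, 0, 0]
      * !![1, 1, 5; 0, 1, 1; 0, 0, 1]
      * !![0, 0, 3; 0, 4, 0; 4, 0, 0]
      * !![1, 1, 5; 0, 1, 1; 0, 0, 1]
      * !![0, 0, 2; 0, 2, 0; 5, 0, 0]
      = !![1, 6, 0; 0, 1, 0; 0, 0, 1] := by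
  rw [show (!![1, 1, 5; 0, 1, 1; 0, 0, 1] : Matrix (Fin 3) (Fin 3) F) * !![0, 0, 2; 0, 2, 0; 5, 0, 0]
      = !![4, 2, 2; 5, 2, 0; 5, 0, 0] from
    mul3 (by linear_combination (3 : F) * hp) (by ring) (by ring) (by ring) (by ring) (by ring) (by ring) (by ring) (by ring)]
  rw [show (!![4, 2, 2; 5, 2, 0; 5, 0, 0] : Matrix (Fin 3) (Fin 3) F) * !![1, 6, 3; 0, 1, 6; 0, 0, 1]
      = !![4, 5, 5; 5, 4, 6; 5, 2, 1] from
    mul3 (by ring) (by linear_combination (3 : F) * hp) (by linear_combination (3 : F) * hp) (by ring) (by linear_combination (4 : F) * hp) (by linear_combination (3 : F) * hp) (by ring) (by linear_combination (4 : F) * hp) (by linear_combination (2 : F) * hp)]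
  rw [show (!![4, 5, 5; 5, 4, 6; 5, 2, 1] : Matrix (Fin 3) (Fin 3) F) * !![1, 6, 3; 0, 1, 6; 0, 0, 1]
      = !![4, 1, 5; 5, 6, 3; 5, 4, 0] from
    mul3 (by ring) (by linear_combination (4 : F) * hp) (by linear_combination (6 : F) * hp) (by ring) (by linear_combination (4 : F) * hp) (by linear_combination (6 : F) * hp) (by ring) (by linear_combination (4 : F) * hp) (by linear_combination (4 : F) * hp)]
  rw [show (!![4, 1, 5; 5, 6, 3; 5, 4, 0] : Matrix (Fin 3) (Fin 3) F) * !![0, 0, 2; 0, 2, 0; 5, 0, 0]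
      = !![4, 2, 1; 1, 5, 3; 0, 1, 3] from
    mul3 (by linear_combination (3 : F) * hp) (by ring) (by linear_combination (1 : F) * hp) (by linear_combination (2 : F) * hp) (by linear_combination (1 : F) * hp) (by linear_combination (1 : F) * hp) (by ring) (by linear_combination (1 : F) * hp) (by linear_combination (1 : F) * hp)]
  rw [show (!![4, 2, 1; 1, 5, 3; 0, 1, 3] : Matrix (Fin 3) (Fin 3) F) * !![1, 1, 5; 0, 1, 1; 0, 0, 1]
      = !![4, 6, 2; 1, 6, 6; 0, 1, 4] from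
    mul3 (by ring) (by ring) (by linear_combination (3 : F) * hp) (by ring) (by ring) (by linear_combination (1 : F) * hp) (by ring) (by ring) (by ring)]
  rw [show (!![4, 6, 2; 1, 6, 6; 0, 1, 4] : Matrix (Fin 3) (Fin 3) F) * !![1, 1, 5; 0, 1, 1; 0, 0, 1]
      = !![4, 3, 0; 1, 0, 3; 0, 1, 5] from
    mul3 (by ring) (by linear_combination (1 : F) * hp) (by linear_combination (4 : F) * hp) (by ring) (by linear_combination (1 : F) * hp) (by linear_combination (2 : F) * hp) (by ring) (by ring) (by ring)]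
  rw [show (!![4, 3, 0; 1, 0, 3; 0, 1, 5] : Matrix (Fin 3) (Fin 3) F) * !![0, 0, 2; 0, 2, 0; 5, 0, 0]
      = !![0, 6, 1; 1, 0, 2; 4, 2, 0] from
    mul3 (by ring) (by ring) (by linear_combination (1 : F) * hp) (by linear_combination (2 : F) * hp) (by ring) (by ring) (by linear_combination (3 : F) * hp) (by ring) (by ring)]
  rw [show (!![0, 6, 1; 1, 0, 2; 4, 2, 0] : Matrix (Fin 3) (Fin 3) F) * !![1, 1, 5; 0, 1, 1; 0, 0, 1]
      = !![0, 6, 0; 1, 1, 0; 4, 6, 1] from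
    mul3 (by ring) (by ring) (by linear_combination (1 : F) * hp) (by ring) (by ring) (by linear_combination (1 : F) * hp) (by ring) (by ring) (by linear_combination (3 : F) * hp)]
  rw [show (!![0, 6, 0; 1, 1, 0; 4, 6, 1] : Matrix (Fin 3) (Fin 3) F) * !![0, 0, 3; 0, 4, 0; 4, 0, 0]
      = !![0, 3, 0; 0, 4, 3; 4, 3, 5] from
    mul3 (by ring) (by linear_combination (3 : F) * hp) (by ring) (by ring) (by ring) (by ring) (by ring) (by linear_combination (3 : F) * hp) (by linear_combination (1 : F) * hp)]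
  rw [show (!![0, 3, 0; 0, 4, 3; 4, 3, 5] : Matrix (Fin 3) (Fin 3) F) * !![1, 1, 5; 0, 1, 1; 0, 0, 1]
      = !![0, 3, 3; 0, 4, 0; 4, 0, 0] from
    mul3 (by ring) (by ring) (by ring) (by ring) (by ring) (by linear_combination (1 : F) * hp) (by ring) (by linear_combination (1 : F) * hp) (by linear_combination (4 : F) * hp)]
  rw [show (!![0, 3, 3; 0, 4, 0; 4, 0, 0] : Matrix (Fin 3) (Fin 3) F) * !![0, 0, 2; 0, 2, 0; 5, 0, 0]
      = !![1, 6, 0; 0, 1, 0; 0, 0, 1] from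
    mul3 (by linear_combination (2 : F) * hp) (by ring) (by ring) (by ring) (by linear_combination (1 : F) * hp) (by ring) (by ring) (by ring) (by linear_combination (1 : F) * hp)]

theorem mmi16 (ω : F) (hp : (2 : F) = 0) (hω : ω^4 + ω + 1 = 0) :
    (!![0, 0, ω; 0, ω, 0; 1 + ω^2 + ω^3, 0, 0] : Matrix (Fin 3) (Fin 3) F) * !![0, 0, ω^2; 0, 1 + ω^3, 0; 1 + ω^3, 0, 0]
      = !![1, 0, 0; 0, 1, 0; 0, 0, 1] :=
  mul3 (by linear_combination (-1 : F) * hp + (1 : F) * hω) (by ring) (by ring) (by ring) (by linear_combination (-1 : F) * hp + (1 : F) * hω) (by ring) (by ring) (by ring) (by linear_combination (-1 - ω : F) * hp + (1 + ω : F) * hω)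

theorem uui16 (ω : F) (hp : (2 : F) = 0) (hω : ω^4 + ω + 1 = 0) :
    (!![1, 1 + ω^2, 1 + ω; 0, 1, 1 + ω; 0, 0, 1] : Matrix (Fin 3) (Fin 3) F) * !![1, 1 + ω^2, ω^2 + ω^3; 0, 1, 1 + ω; 0, 0, 1]
      = !![1, 0, 0; 0, 1, 0; 0, 0, 1] :=
  mul3 (by ring) (by linear_combination (1 + ω^2 : F) * hp) (by linear_combination (1 + ω + ω^2 + ω^3 : F) * hp) (by ring) (by ring) (by linear_combination (1 + ω : F) * hp) (by ring) (by ring) (by ring)

theorem cert_um16 (ω : F) (hp : (2 : F) = 0) (hω : ω^4 + ω + 1 = 0) :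
    (!![0, 0, ω; 0, ω, 0; 1 + ω^2 + ω^3, 0, 0] : Matrix (Fin 3) (Fin 3) F)
      * !![1, 1 + ω^2, 1 + ω; 0, 1, 1 + ω; 0, 0, 1]
      * !![0, 0, ω^2; 0, 1 + ω^3, 0; 1 + ω^3, 0, 0]
      * !![1, 1 + ω^2, ω^2 + ω^3; 0, 1, 1 + ω; 0, 0, 1]
      * !![0, 0, ω^2; 0, 1 + ω^3, 0; 1 + ω^3, 0, 0]
      * !![0, 0, ω^2; 0, 1 + ω^3, 0; 1 + ω^3, 0, 0]
      * !![0, 0, ω^2; 0, 1 + ω^3, 0; 1 + ω^3, 0, 0]
      * !![1, 1 + ω^2, ω^2 + ω^3; 0, 1, 1 + ω; 0, 0, 1]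
      * !![0, 0, ω^2; 0, 1 + ω^3, 0; 1 + ω^3, 0, 0]
      * !![1, 1 + ω^2, 1 + ω; 0, 1, 1 + ω; 0, 0, 1]
      * !![0, 0, ω; 0, ω, 0; 1 + ω^2 + ω^3, 0, 0]
      * !![1, 1 + ω^2, ω^2 + ω^3; 0, 1, 1 + ω; 0, 0, 1]
      * !![1, 1 + ω^2, ω^2 + ω^3; 0, 1, 1 + ω; 0, 0, 1]
      * !![0, 0, ω; 0, ω, 0; 1 + ω^2 + ω^3, 0, 0]
      * !![1, 1 + ω^2, 1 + ω; 0, 1, 1 + ω; 0, 0, 1]
      * !![0, 0, ω; 0, ω, 0; 1 + ω^2 + ω^3, 0, 0]
      * !![1, 1 + ω^2, ω^2 + ω^3; 0, 1, 1 + ω; 0, 0, 1]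
      * !![0, 0, ω^2; 0, 1 + ω^3, 0; 1 + ω^3, 0, 0]
      = !![1, 1 + ω + ω^2, ω^2 + ω^3; 0, 1, 0; 0, 0, 1] := by
  rw [show (!![0, 0, ω; 0, ω, 0; 1 + ω^2 + ω^3, 0, 0] : Matrix (Fin 3) (Fin 3) F) * !![1, 1 + ω^2, 1 + ω; 0, 1, 1 + ω; 0, 0, 1]
      = !![0, 0, ω; 0, ω, ω + ω^2; 1 + ω^2 + ω^3, ω^2 + ω^3, ω^2] from
    mul3 (by ring) (by ring) (by ring) (by ring) (by ring) (by ring) (by ring) (by linear_combination (-ω : F) * hp + (1 + ω : F) * hω) (by linear_combination (ω^3 : F) * hp + (1 : F) * hω)]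
  rw [show (!![0, 0, ω; 0, ω, ω + ω^2; 1 + ω^2 + ω^3, ω^2 + ω^3, ω^2] : Matrix (Fin 3) (Fin 3) F) * !![0, 0, ω^2; 0, 1 + ω^3, 0; 1 + ω^3, 0, 0]
      = !![1, 0, 0; 1 + ω, 1, 0; ω, ω + ω^2, 1] from
    mul3 (by linear_combination (-1 : F) * hp + (1 : F) * hω) (by ring) (by ring) (by linear_combination (-1 - ω : F) * hp + (1 + ω : F) * hω) (by linear_combination (-1 : F) * hp + (1 : F) * hω) (by ring) (by linear_combination (-ω : F) * hp + (ω : F) * hω) (by linear_combination (-ω - ω^2 : F) * hp + (ω + ω^2 : F) * hω) (by linear_combination (-1 - ω : F) * hp + (1 + ω : F) * hω)]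
  rw [show (!![1, 0, 0; 1 + ω, 1, 0; ω, ω + ω^2, 1] : Matrix (Fin 3) (Fin 3) F) * !![1, 1 + ω^2, ω^2 + ω^3; 0, 1, 1 + ω; 0, 0, 1]
      = !![1, 1 + ω^2, ω^2 + ω^3; 1 + ω, ω + ω^2 + ω^3, ω^2; ω, ω^2 + ω^3, 0] from
    mul3 (by ring) (by ring) (by ring) (by ring) (by linear_combination (1 : F) * hp) (by linear_combination (ω^3 : F) * hp + (1 : F) * hω) (by ring) (by linear_combination (ω : F) * hp) (by linear_combination (ω^2 + ω^3 : F) * hp + (1 : F) * hω)]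
  rw [show (!![1, 1 + ω^2, ω^2 + ω^3; 1 + ω, ω + ω^2 + ω^3, ω^2; ω, ω^2 + ω^3, 0] : Matrix (Fin 3) (Fin 3) F) * !![0, 0, ω^2; 0, 1 + ω^3, 0; 1 + ω^3, 0, 0]
      = !![ω + ω^2, 1 + ω + ω^3, ω^2; ω, 1 + ω + ω^2, ω^2 + ω^3; 0, ω + ω^2, ω^3] from
    mul3 (by linear_combination (-ω - ω^2 : F) * hp + (ω + ω^2 : F) * hω) (by linear_combination (-ω : F) * hp + (ω : F) * hω) (by ring) (by linear_combination (-ω : F) * hp + (ω : F) * hω) (by linear_combination (-1 - ω - ω^2 : F) * hp + (1 + ω + ω^2 : F) * hω) (by ring) (by ring) (by linear_combination (-ω - ω^2 : F) * hp + (ω + ω^2 : F) * hω) (by ring)]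
  rw [show (!![ω + ω^2, 1 + ω + ω^3, ω^2; ω, 1 + ω + ω^2, ω^2 + ω^3; 0, ω + ω^2, ω^3] : Matrix (Fin 3) (Fin 3) F) * !![0, 0, ω^2; 0, 1 + ω^3, 0; 1 + ω^3, 0, 0]
      = !![ω, ω^2 + ω^3, 1 + ω + ω^3; ω + ω^2, ω + ω^3, ω^3; ω^2, 1 + ω, 0] from
    mul3 (by linear_combination (-ω : F) * hp + (ω : F) * hω) (by linear_combination (-ω^2 : F) * hp + (1 + ω^2 : F) * hω) (by linear_combination (-1 - ω : F) * hp + (1 : F) * hω) (by linear_combination (-ω - ω^2 : F) * hp + (ω + ω^2 : F) * hω) (by linear_combination (-ω : F) * hp + (1 + ω : F) * hω) (by ring) (by linear_combination (-ω^2 : F) * hp + (ω^2 : F) * hω) (by linear_combination (-1 - ω : F) * hp + (1 + ω : F) * hω) (by ring)]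
  rw [show (!![ω, ω^2 + ω^3, 1 + ω + ω^3; ω + ω^2, ω + ω^3, ω^3; ω^2, 1 + ω, 0] : Matrix (Fin 3) (Fin 3) F) * !![0, 0, ω^2; 0, 1 + ω^3, 0; 1 + ω^3, 0, 0]
      = !![ω^2 + ω^3, ω + ω^2, ω^3; ω^2, 1 + ω^2, 1 + ω + ω^3; 0, ω^3, 1 + ω] from
    mul3 (by linear_combination (-ω^2 : F) * hp + (1 + ω^2 : F) * hω) (by linear_combination (-ω - ω^2 : F) * hp + (ω + ω^2 : F) * hω) (by ring) (by linear_combination (-ω^2 : F) * hp + (ω^2 : F) * hω) (by linear_combination (-1 - ω^2 : F) * hp + (1 + ω^2 : F) * hω) (by linear_combination (-1 - ω : F) * hp + (1 : F) * hω) (by ring) (by linear_combination (1 : F) * hω) (by linear_combination (-1 - ω : F) * hp + (1 : F) * hω)]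
  rw [show (!![ω^2 + ω^3, ω + ω^2, ω^3; ω^2, 1 + ω^2, 1 + ω + ω^3; 0, ω^3, 1 + ω] : Matrix (Fin 3) (Fin 3) F) * !![1, 1 + ω^2, ω^2 + ω^3; 0, 1, 1 + ω; 0, 0, 1]
      = !![ω^2 + ω^3, 1 + ω + ω^2 + ω^3, 1 + ω^2 + ω^3; ω^2, ω, 1; 0, ω^3, ω^3] from
    mul3 (by ring) (by linear_combination (-1 - ω : F) * hp + (1 + ω : F) * hω) (by linear_combination (-1 - ω - ω^2 : F) * hp + (1 + 2 * ω + ω^2 : F) * hω) (by ring) (by linear_combination (-ω + ω^2 : F) * hp + (1 : F) * hω) (by linear_combination (ω^3 : F) * hp + (1 + ω : F) * hω) (by ring) (by ring) (by linear_combination (1 : F) * hω)]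
  rw [show (!![ω^2 + ω^3, 1 + ω + ω^2 + ω^3, 1 + ω^2 + ω^3; ω^2, ω, 1; 0, ω^3, ω^3] : Matrix (Fin 3) (Fin 3) F) * !![0, 0, ω^2; 0, 1 + ω^3, 0; 1 + ω^3, 0, 0]
      = !![1 + ω + ω^2 + ω^3, ω + ω^2 + ω^3, 1 + ω^2; 1 + ω^3, 1, 1 + ω; ω^2, ω^2, 0] from
    mul3 (by linear_combination (-ω - ω^2 : F) * hp + (ω + ω^2 : F) * hω) (by linear_combination (-ω - ω^2 : F) * hp + (1 + ω + ω^2 : F) * hω) (by linear_combination (-1 - ω - ω^2 : F) * hp + (1 + ω : F) * hω) (by ring) (by linear_combination (-1 : F) * hp + (1 : F) * hω) (by linear_combination (-1 - ω : F) * hp + (1 : F) * hω) (by linear_combination (-ω^2 : F) * hp + (ω^2 : F) * hω) (by linear_combination (-ω^2 : F) * hp + (ω^2 : F) * hω) (by ring)]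
  rw [show (!![1 + ω + ω^2 + ω^3, ω + ω^2 + ω^3, 1 + ω^2; 1 + ω^3, 1, 1 + ω; ω^2, ω^2, 0] : Matrix (Fin 3) (Fin 3) F) * !![1, 1 + ω^2, 1 + ω; 0, 1, 1 + ω; 0, 0, 1]
      = !![1 + ω + ω^2 + ω^3, ω^3, ω + ω^2; 1 + ω^3, ω + ω^3, ω^3; ω^2, 1 + ω, 0] from
    mul3 (by ring) (by linear_combination (ω^2 + ω^3 : F) * hp + (1 + ω : F) * hω) (by linear_combination (2 * ω^2 + 2 * ω^3 : F) * hp + (2 : F) * hω) (by ring) (by linear_combination (1 - ω : F) * hp + (ω : F) * hω) (by linear_combination (1 + ω : F) * hp + (1 : F) * hω) (by ring) (by linear_combination (-1 - ω + ω^2 : F) * hp + (1 : F) * hω) (by linear_combination (ω^2 + ω^3 : F) * hp)]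
  rw [show (!![1 + ω + ω^2 + ω^3, ω^3, ω + ω^2; 1 + ω^3, ω + ω^3, ω^3; ω^2, 1 + ω, 0] : Matrix (Fin 3) (Fin 3) F) * !![0, 0, ω; 0, ω, 0; 1 + ω^2 + ω^3, 0, 0]
      = !![ω^3, 1 + ω, 1 + ω^2 + ω^3; ω, 1 + ω + ω^2, 1; 0, ω + ω^2, ω^3] from
    mul3 (by linear_combination (-1 - ω : F) * hp + (2 + ω : F) * hω) (by linear_combination (-1 - ω : F) * hp + (1 : F) * hω) (by linear_combination (-1 : F) * hp + (1 : F) * hω) (by linear_combination (-ω - ω^2 : F) * hp + (ω + ω^2 : F) * hω) (by linear_combination (-1 - ω : F) * hp + (1 : F) * hω) (by linear_combination (-1 : F) * hp + (1 : F) * hω) (by ring) (by ring) (by ring)]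
  rw [show (!![ω^3, 1 + ω, 1 + ω^2 + ω^3; ω, 1 + ω + ω^2, 1; 0, ω + ω^2, ω^3] : Matrix (Fin 3) (Fin 3) F) * !![1, 1 + ω^2, ω^2 + ω^3; 0, 1, 1 + ω; 0, 0, 1]
      = !![ω^3, 1 + ω^2 + ω^3, ω; ω, 1 + ω^2 + ω^3, 1 + ω; 0, ω + ω^2, ω] from
    mul3 (by ring) (by linear_combination (-ω^2 : F) * hp + (ω : F) * hω) (by linear_combination (1 : F) * hp + (ω + ω^2 : F) * hω) (by ring) (by linear_combination (ω : F) * hp) (by linear_combination (ω^2 + ω^3 : F) * hp + (1 : F) * hω) (by ring) (by ring) (by linear_combination (ω^2 + ω^3 : F) * hp)]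
  rw [show (!![ω^3, 1 + ω^2 + ω^3, ω; ω, 1 + ω^2 + ω^3, 1 + ω; 0, ω + ω^2, ω] : Matrix (Fin 3) (Fin 3) F) * !![1, 1 + ω^2, ω^2 + ω^3; 0, 1, 1 + ω; 0, 0, 1]
      = !![ω^3, 1 + ω, ω^2 + ω^3; ω, 1 + ω + ω^2, ω^2 + ω^3; 0, ω + ω^2, ω^3] from
    mul3 (by ring) (by linear_combination (-ω + ω^3 : F) * hp + (ω : F) * hω) (by linear_combination (-ω^2 : F) * hp + (1 + ω + ω^2 : F) * hω) (by ring) (by linear_combination (ω^3 : F) * hp) (by linear_combination (ω^3 : F) * hp + (2 : F) * hω) (by ring) (by ring) (by linear_combination (ω + ω^2 : F) * hp)]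
  rw [show (!![ω^3, 1 + ω, ω^2 + ω^3; ω, 1 + ω + ω^2, ω^2 + ω^3; 0, ω + ω^2, ω^3] : Matrix (Fin 3) (Fin 3) F) * !![0, 0, ω; 0, ω, 0; 1 + ω^2 + ω^3, 0, 0]
      = !![1 + ω, ω + ω^2, 1 + ω; 1 + ω, ω + ω^2 + ω^3, ω^2; ω, ω^2 + ω^3, 0] from
    mul3 (by linear_combination (-1 - 2 * ω - ω^2 : F) * hp + (1 + 2 * ω + ω^2 : F) * hω) (by ring) (by linear_combination (-1 - ω : F) * hp + (1 : F) * hω) (by linear_combination (-1 - 2 * ω - ω^2 : F) * hp + (1 + 2 * ω + ω^2 : F) * hω) (by ring) (by ring) (by linear_combination (-ω - ω^2 : F) * hp + (ω + ω^2 : F) * hω) (by ring) (by ring)]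
  rw [show (!![1 + ω, ω + ω^2, 1 + ω; 1 + ω, ω + ω^2 + ω^3, ω^2; ω, ω^2 + ω^3, 0] : Matrix (Fin 3) (Fin 3) F) * !![1, 1 + ω^2, 1 + ω; 0, 1, 1 + ω; 0, 0, 1]
      = !![1 + ω, 1 + ω^3, ω^2 + ω^3; 1 + ω, 1, 0; ω, ω + ω^2, 1] from
    mul3 (by ring) (by linear_combination (ω + ω^2 : F) * hp) (by linear_combination (1 + 2 * ω + ω^2 : F) * hp) (by ring) (by linear_combination (ω + ω^2 + ω^3 : F) * hp) (by linear_combination (ω + 2 * ω^2 + ω^3 : F) * hp + (1 : F) * hω) (by ring) (by linear_combination (ω^3 : F) * hp) (by linear_combination (-1 + ω^2 + ω^3 : F) * hp + (1 : F) * hω)]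
  rw [show (!![1 + ω, 1 + ω^3, ω^2 + ω^3; 1 + ω, 1, 0; ω, ω + ω^2, 1] : Matrix (Fin 3) (Fin 3) F) * !![0, 0, ω; 0, ω, 0; 1 + ω^2 + ω^3, 0, 0]
      = !![1 + ω, 1, ω + ω^2; 0, ω, ω + ω^2; 1 + ω^2 + ω^3, ω^2 + ω^3, ω^2] from
    mul3 (by linear_combination (-1 - 2 * ω - ω^2 : F) * hp + (1 + 2 * ω + ω^2 : F) * hω) (by linear_combination (-1 : F) * hp + (1 : F) * hω) (by ring) (by ring) (by ring) (by ring) (by ring) (by ring) (by ring)]
  rw [show (!![1 + ω, 1, ω + ω^2; 0, ω, ω + ω^2; 1 + ω^2 + ω^3, ω^2 + ω^3, ω^2] : Matrix (Fin 3) (Fin 3) F) * !![1, 1 + ω^2, ω^2 + ω^3; 0, 1, 1 + ω; 0, 0, 1]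
      = !![1 + ω, ω + ω^2 + ω^3, ω; 0, ω, 0; 1 + ω^2 + ω^3, 0, 0] from
    mul3 (by ring) (by linear_combination (1 : F) * hp) (by linear_combination (ω^2 + ω^3 : F) * hp + (1 : F) * hω) (by ring) (by ring) (by linear_combination (ω + ω^2 : F) * hp) (by ring) (by linear_combination (-ω + ω^2 + ω^3 : F) * hp + (1 + ω : F) * hω) (by linear_combination (-1 - 2 * ω + ω^3 : F) * hp + (2 + 2 * ω + ω^2 : F) * hω)]
  rw [show (!![1 + ω, ω + ω^2 + ω^3, ω; 0, ω, 0; 1 + ω^2 + ω^3, 0, 0] : Matrix (Fin 3) (Fin 3) F) * !![0, 0, ω^2; 0, 1 + ω^3, 0; 1 + ω^3, 0, 0]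
      = !![1, 1 + ω + ω^2, ω^2 + ω^3; 0, 1, 0; 0, 0, 1] from
    mul3 (by linear_combination (-1 : F) * hp + (1 : F) * hω) (by linear_combination (-1 - ω - ω^2 : F) * hp + (1 + ω + ω^2 : F) * hω) (by ring) (by ring) (by linear_combination (-1 : F) * hp + (1 : F) * hω) (by ring) (by ring) (by ring) (by linear_combination (-1 - ω : F) * hp + (1 + ω : F) * hω)]

end Cfsg.Agent.Helper20.SL3Gen
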